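import Cfsg.Agent.H11.PQHall
import Cfsg.Agent.H11.CopFF
import Cfsg.Agent.H36.Omega
import Cfsg.Agent.H10.Thompson
import Cfsg.Agent.S0655
import Cfsg.Agent.S0618
import Cfsg.Agent.S3996
import Cfsg.Agent.ZJ.SolvFact

/-!
# Automizers of characteristic subgroups in `{p,q}`-groups (helper11)
-/

set_option autoImplicit false
set_option linter.style.haveILetI false

namespace Cfsg.Agent.H11.AutoA

open Subgroup Cfsg

universe u

theorem char_comap {T Tb : Type*} [Group T] [Group Tb] (f : T →* Tb) (hf : Function.Surjective f)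
    (hker : f.ker.Characteristic) {K : Subgroup Tb} (hK : K.Characteristic) :
    (K.comap f).Characteristic := by
  rw [characteristic_iff_comap_le]
  intro φ
  have hφ : f.ker.map φ.toMonoidHom = f.ker := characteristic_iff_map_eq.mp hker φ
  let e := QuotientGroup.quotientKerEquivOfSurjective f hf
  let φ' := QuotientGroup.congr f.ker f.ker φ hφ
  let φb : Tb ≃* Tb := (e.symm.trans φ').trans e
  have key : ∀ x : T, φb (f x) = f (φ x) := by
    intro x
    have h1 : e.symm (f x) = QuotientGroup.mk x := by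
      rw [MulEquiv.symm_apply_eq]
      rfl
    show e (φ' (e.symm (f x))) = f (φ x)
    rw [h1]
    rfl
  intro x hx
  have h2 : f (φ x) ∈ K := hx
  rw [← key] at h2
  have h3 := characteristic_iff_comap_eq.mp hK φb
  show f x ∈ K
  rw [← h3]
  exact h2

/-- `q`-parts -/
theorem exists_qpart {G Gb : Type*} [Group G] [Group Gb] [Finite G] (f : G →* Gb) (g : G) {q : ℕ}
    (hq : q.Prime) {k : ℕ} (hk : orderOf (f g) = q ^ k) :
    ∃ m : ℕ, (∃ j, orderOf (g ^ m) = q ^ j) ∧ f (g ^ m) = f g := by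
  have hn : orderOf g ≠ 0 := (orderOf_pos g).ne'
  obtain ⟨a, b, hb, hab⟩ := Nat.exists_eq_pow_mul_and_not_dvd hn q hq.one_lt.ne'
  have hcop : Nat.Coprime (q ^ a) b := Nat.Coprime.pow_left a ((Nat.Prime.coprime_iff_not_dvd hq).mpr hb)
  have hka : q ^ k ∣ q ^ a := by
    have h1 : q ^ k ∣ q ^ a * b := by
      rw [← hab, ← hk]
      exact orderOf_map_dvd f g
    have h2 : Nat.Coprime (q ^ k) b := Nat.Coprime.pow_left k ((Nat.Prime.coprime_iff_not_dvd hq).mpr hb)
    exact h2.dvd_of_dvd_mul_right h1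
  obtain ⟨m, hm1, hm2⟩ := Nat.chineseRemainder hcop 1 0
  refine ⟨m, ?_, ?_⟩
  · have h1 : orderOf (g ^ m) ∣ q ^ a := by
      rw [orderOf_dvd_iff_pow_eq_one, ← pow_mul]
      apply orderOf_dvd_iff_pow_eq_one.mp
      rw [hab, mul_comm m]
      exact mul_dvd_mul_left _ ((Nat.modEq_zero_iff_dvd).mp hm2)
    obtain ⟨j, -, hj⟩ := (Nat.dvd_prime_pow hq).mp h1
    exact ⟨j, hj⟩
  · rw [map_pow]
    conv_rhs => rw [← pow_one (f g)]
    rw [pow_eq_pow_iff_modEq, hk]
    exact hm1.of_dvd hka

/-- hypothesis on characteristic subgroups -/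
def Hyp (q : ℕ) {Y : Type*} [Group Y] (T : Subgroup Y) : Prop :=
  ∀ K : Subgroup T, K.Characteristic → ∀ y ∈ normalizer ((K.map T.subtype : Subgroup Y) : Set Y),
    (∃ k, orderOf y = q ^ k) → y ∈ centralizer ((K.map T.subtype : Subgroup Y) : Set Y)

theorem Hyp.quot {Y : Type*} [Group Y] [Finite Y] {p q : ℕ} [hp : Fact p.Prime] [hq : Fact q.Prime]
    {T : Subgroup Y} (hT : IsPGroup p T) (h : Hyp q T) (N : Subgroup Y) [N.Normal]
    (hN : (Nat.card N).Coprime p ∨ (N ≤ T ∧ (N.subgroupOf T).Characteristic)) :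
    Hyp q (T.map (QuotientGroup.mk' N)) := by
  intro Kb hKb yb hyb ⟨k, hk⟩
  let f : T →* T.map (QuotientGroup.mk' N) := (QuotientGroup.mk' N).subgroupMap T
  have hf : Function.Surjective f := (QuotientGroup.mk' N).subgroupMap_surjective T
  have hfx : ∀ x : T, ((f x : T.map (QuotientGroup.mk' N)) : Y ⧸ N) = QuotientGroup.mk' N x :=
    fun x => rfl
  have hker : f.ker = N.subgroupOf T := by
    ext x
    rw [MonoidHom.mem_ker, mem_subgroupOf, ← QuotientGroup.eq_one_iff]
    constructor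
    · intro hx
      have := congrArg Subtype.val hx
      rw [hfx] at this
      exact this
    · intro hx
      exact Subtype.ext hx
  have hkc : f.ker.Characteristic := by
    rw [hker]
    rcases hN with hN | hN
    · have : N.subgroupOf T = ⊥ := by
        rw [subgroupOf_eq_bot, disjoint_iff]
        exact ZJ.inf_eq_bot_of_coprime hN hT
      rw [this]
      infer_instance
    · exact hN.2
  set K : Subgroup T := Kb.comap f with hK
  have hKc : K.Characteristic := char_comap f hf hkc hKb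
  have hmap : (K.map T.subtype).map (QuotientGroup.mk' N) =
      Kb.map (T.map (QuotientGroup.mk' N)).subtype := by
    ext z
    constructor
    · rintro ⟨_, ⟨x, hx, rfl⟩, rfl⟩
      exact ⟨f x, hx, rfl⟩
    · rintro ⟨w, hw, rfl⟩
      obtain ⟨x, rfl⟩ := hf w
      exact ⟨x, ⟨x, hw, rfl⟩, rfl⟩
  have hKp : IsPGroup p (K.map T.subtype) := (hT.to_subgroup K).map T.subtype
  obtain ⟨g, hg, hgy⟩ : ∃ g ∈ normalizer ((K.map T.subtype : Subgroup Y) : Set Y),
      QuotientGroup.mk' N g = yb := by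
    rcases hN with hN | hN
    · exact ZJ.exists_lift_normalizer' N hN hKp (by rw [hmap]; exact hyb)
    · obtain ⟨g, rfl⟩ := QuotientGroup.mk'_surjective N yb
      refine ⟨g, ?_, rfl⟩
      have hcm : K.map T.subtype = (Kb.map (T.map (QuotientGroup.mk' N)).subtype).comap
          (QuotientGroup.mk' N) := by
        ext x
        constructor
        · rintro ⟨x, hx, rfl⟩
          exact ⟨f x, hx, rfl⟩
        · rintro ⟨w, hw, hwx⟩
          obtain ⟨t, rfl⟩ := hf w
          have h1 : QuotientGroup.mk' N t = QuotientGroup.mk' N x := hwx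
          have h2 : (t : Y)⁻¹ * x ∈ N := QuotientGroup.eq.mp h1
          have h3 : x ∈ T := by
            have := T.mul_mem t.2 (hN.1 h2)
            rwa [mul_inv_cancel_left] at this
          refine ⟨⟨x, h3⟩, ?_, rfl⟩
          show f ⟨x, h3⟩ ∈ Kb
          have : f ⟨x, h3⟩ = f t := Subtype.ext h1.symm
          rw [this]; exact hw
      rw [mem_normalizer_iff] at hyb ⊢
      intro x
      rw [hcm, mem_comap, mem_comap, hyb, map_mul, map_mul, map_inv]
  obtain ⟨m, hm, hmg⟩ := exists_qpart (QuotientGroup.mk' N) g hq.out (k := k) (by rw [hgy]; exact hk)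
  have h1 := h K hKc (g ^ m) (Subgroup.pow_mem _ hg m) hm
  rw [← hgy, ← hmg, ← hmap, mem_centralizer_iff]
  rintro _ ⟨x, hx, rfl⟩
  rw [← map_mul, ← map_mul, mem_centralizer_iff.mp h1 x hx]

section zt

variable {T : Type*} [Group T]

/-- `Ω₁(Z(T))` -/
def zt (p : ℕ) (T : Type*) [Group T] : Subgroup T :=
  omegaOne p ((⊤ : Subgroup T) ⊓ centralizer ((⊤ : Subgroup T) : Set T))

theorem zt_char (p : ℕ) : (zt p T).Characteristic := by
  rw [characteristic_iff_map_eq]
  intro φ
  unfold zt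
  rw [H36.Omega.omegaCenter_map φ.toMonoidHom ⊤ (fun x _ hx => φ.injective (by simpa using hx))]
  have : (⊤ : Subgroup T).map φ.toMonoidHom = ⊤ :=
    Subgroup.map_top_of_surjective _ φ.surjective
  rw [this]

theorem zt_map {Y : Type*} [Group Y] (p : ℕ) (T : Subgroup Y) :
    (zt p T).map T.subtype = omegaOne p (T ⊓ centralizer (T : Set Y)) := by
  unfold zt
  rw [H36.Omega.omegaCenter_map T.subtype ⊤ (fun x _ hx => Subtype.ext hx)]
  have : (⊤ : Subgroup T).map T.subtype = T := by
    rw [← MonoidHom.range_eq_map, range_subtype]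
  rw [this]

theorem zt_le_thompson [Finite T] {p : ℕ} [Fact p.Prime] (hT : IsPGroup p T) :
    zt p T ≤ thompsonSubgroup p T := by
  have h1 : zt p T ≤ omegaOne p (centralizer (thompsonSubgroup p T : Set T)) := by
    apply H36.Omega.omegaOne_mono
    exact inf_le_right.trans (centralizer_le (by intro x _; exact Set.mem_univ x))
  have h2 := S0655.result hT
  rw [← h2.2, ← h2.1] at h1
  obtain ⟨A, hA⟩ := H11.exists_max_elem (G := T) p
  exact h1.trans ((sInf_le hA).trans (le_sSup hA))

theorem zt_ne_bot [Finite T] {p : ℕ} [hp : Fact p.Prime] (hT : IsPGroup p T) (h : Nontrivial T) :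
    zt p T ≠ ⊥ := by
  have hc : Nontrivial (center T) := hT.center_nontrivial
  have hcp : IsPGroup p (center T) := hT.to_subgroup _
  have hd : p ∣ Nat.card (center T) := by
    obtain ⟨k, hk⟩ := IsPGroup.iff_card.mp hcp
    have : 1 < Nat.card (center T) := Finite.one_lt_card
    rw [hk] at this ⊢
    have hk0 : k ≠ 0 := by
      rintro rfl
      simp at this
    exact dvd_pow_self p hk0
  obtain ⟨x, hx⟩ := exists_prime_orderOf_dvd_card' p hd
  intro h0
  have h1 : (x : T) ∈ zt p T := by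
    apply Subgroup.subset_closure
    refine ⟨⟨mem_top _, ?_⟩, ?_⟩
    · show (x : T) ∈ centralizer ((⊤ : Subgroup T) : Set T)
      rw [mem_centralizer_iff]
      intro y _
      exact mem_center_iff.mp x.2 y
    · have := pow_orderOf_eq_one x
      rw [hx] at this
      exact congrArg Subtype.val this
  rw [h0, mem_bot] at h1
  have : x = 1 := Subtype.ext h1
  rw [this, orderOf_one] at hx
  exact hp.out.one_lt.ne hx

end zt

/-- a subgroup containing all `p`- and `q`-elements of a `{p,q}`-group -/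
theorem eq_top_of_elements {M : Type*} [Group M] [Finite M] {p q : ℕ} [hp : Fact p.Prime]
    [hq : Fact q.Prime] (hM : ∀ r : ℕ, r.Prime → r ∣ Nat.card M → r = p ∨ r = q) (L : Subgroup M)
    (P : Sylow p M) (hP : (P : Subgroup M) ≤ L) (hL : ∀ y : M, (∃ k, orderOf y = q ^ k) → y ∈ L) :
    L = ⊤ := by
  rw [← Subgroup.index_eq_one]
  by_contra hne
  obtain ⟨r, hr, hd⟩ := Nat.exists_prime_and_dvd hne
  rcases hM r hr (hd.trans L.index_dvd_card) with rfl | rfl
  · exact P.not_dvd_index (hd.trans (Subgroup.index_dvd_of_le hP))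
  · obtain ⟨Q⟩ : Nonempty (Sylow r M) := inferInstance
    have hQ : (Q : Subgroup M) ≤ L := by
      intro y hy
      apply hL
      obtain ⟨k, hk⟩ := IsPGroup.iff_orderOf.mp Q.isPGroup' ⟨y, hy⟩
      exact ⟨k, by rw [← hk]; exact (Subgroup.orderOf_mk y hy).symm⟩
    exact Q.not_dvd_index (hd.trans (Subgroup.index_dvd_of_le hQ))

theorem factorizable {Y : Type*} [Group Y] [Finite Y] {p q : ℕ} [hp : Fact p.Prime]
    [hq : Fact q.Prime] (hpq : p ≠ q) (h23 : ¬ ((p = 2 ∧ q = 3) ∨ (p = 3 ∧ q = 2)))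
    (hY : ∀ r : ℕ, r.Prime → r ∣ Nat.card Y → r = p ∨ r = q)
    (hO : pPrimeCore p Y = ⊥) : IsThompsonFactorizable p Y := by
  by_contra hnf
  have hs : Group.IsSolvable Y := S3996.solvable_of_primes Y p q hp.out hq.out hY
  obtain ⟨h1, E, hE1, hE2, hE3, hn, ⟨e⟩⟩ := S0618.result (ZJ.isPSolvable_of_isSolvable p hs) hO hnf
  have hdvd : ∀ r : ℕ, r ∣ Nat.card (Matrix.SpecialLinearGroup (Fin 2) (ZMod p)) → r ∣ Nat.card Y := by
    intro r hr
    rw [← Nat.card_congr e.toEquiv] at hr
    exact (hr.trans (Subgroup.card_quotient_dvd_card _)).trans (Subgroup.card_subgroup_dvd_card E)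
  rcases h1 with rfl | rfl
  · have h3 : 3 ∣ Nat.card (Matrix.SpecialLinearGroup (Fin 2) (ZMod 2)) := by
      obtain ⟨g, hg, hg1⟩ := H11.sl2_b
      have h5 : orderOf g = 3 := orderOf_eq_prime hg hg1
      have h6 : orderOf g ∣ Nat.card (Matrix.SpecialLinearGroup (Fin 2) (ZMod 2)) :=
        _root_.orderOf_dvd_natCard g
      rwa [h5] at h6
    rcases hY 3 Nat.prime_three (hdvd 3 h3) with h | h
    · omega
    · exact h23 (Or.inl ⟨rfl, h.symm⟩)
  · have h3 : 2 ∣ Nat.card (Matrix.SpecialLinearGroup (Fin 2) (ZMod 3)) := by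
      obtain ⟨g, hg, hg1⟩ := H11.sl2_c
      have h5 : orderOf g = 2 := orderOf_eq_prime hg hg1
      have h6 : orderOf g ∣ Nat.card (Matrix.SpecialLinearGroup (Fin 2) (ZMod 3)) :=
        _root_.orderOf_dvd_natCard g
      rwa [h5] at h6
    rcases hY 2 Nat.prime_two (hdvd 2 h3) with h | h
    · omega
    · exact h23 (Or.inr ⟨rfl, h.symm⟩)

end Cfsg.Agent.H11.AutoA
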