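import Cfsg.Agent.H11.AutoA

/-!
# Automizers of characteristic subgroups in `{p,q}`-groups, main lemma (helper11)
-/

set_option autoImplicit false
set_option linter.style.haveILetI false

namespace Cfsg.Agent.H11.AutoA

open Subgroup Cfsg

universe u

/-- If no `q`-element acts nontrivially on a characteristic subgroup of `T` it normalizes, the Sylow
`q`-subgroup is normal. -/
theorem main {p q : ℕ} [hp : Fact p.Prime] [hq : Fact q.Prime] (hpq : p ≠ q)
    (h23 : ¬ ((p = 2 ∧ q = 3) ∨ (p = 3 ∧ q = 2))) (n : ℕ) :
    ∀ (Y : Type u) [Group Y] [Finite Y] (T : Sylow p Y), Nat.card Y = n →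
      (∀ r : ℕ, r.Prime → r ∣ Nat.card Y → r = p ∨ r = q) → Hyp q (T : Subgroup Y) →
      ∃ L : Subgroup Y, L.Normal ∧ IsPGroup q L ∧ ¬ q ∣ L.index := by
  induction n using Nat.strong_induction_on with
  | _ n ih =>
    intro Y _ _ T hcard hY hH
    have hYq : ∀ N : Subgroup Y, N.Normal → ∀ r : ℕ, r.Prime → r ∣ Nat.card (Y ⧸ N) → r = p ∨ r = q := by
      intro N _ r hr hd
      exact hY r hr (hd.trans (Subgroup.card_quotient_dvd_card N))
    by_cases hO : pCore q Y = ⊥
    · have hO' : pPrimeCore p Y = ⊥ := by
        rw [eq_bot_iff, ← hO]
        apply Solv.le_pCore inferInstance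
        have h1 : (Nat.card (pPrimeCore p Y)).Coprime p := Solv.pPrimeCore_card_coprime p
        have h2 : Nat.card (pPrimeCore p Y) =
            q ^ (Nat.card (pPrimeCore p Y)).primeFactorsList.length := by
          apply Nat.eq_prime_pow_of_unique_prime_dvd Nat.card_pos.ne'
          intro r hr hd
          rcases hY r hr (hd.trans (Subgroup.card_subgroup_dvd_card _)) with rfl | rfl
          · exact absurd hd ((Nat.Prime.coprime_iff_not_dvd hr).mp h1.symm)
          · rfl
        exact IsPGroup.of_card h2
      rcases subsingleton_or_nontrivial (T : Subgroup Y) with hT | hT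
      · -- `Y` is a `q`-group
        refine ⟨⊤, inferInstance, ?_, ?_⟩
        · have h1 : (T : Subgroup Y) = ⊥ := (Subgroup.eq_bot_iff_forall _).mpr
            (fun x hx => congrArg Subtype.val (Subsingleton.elim (⟨x, hx⟩ : (T : Subgroup Y)) 1))
          have h2 : ¬ p ∣ Nat.card Y := by
            have := T.not_dvd_index
            rwa [h1, Subgroup.index_bot] at this
          have h3 : Nat.card (⊤ : Subgroup Y) = q ^ (Nat.card Y).primeFactorsList.length := by
            rw [Subgroup.card_top]
            apply Nat.eq_prime_pow_of_unique_prime_dvd Nat.card_pos.ne'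
            intro r hr hd
            rcases hY r hr hd with rfl | rfl
            · exact absurd hd h2
            · rfl
          exact IsPGroup.of_card h3
        · rw [Subgroup.index_top]
          exact fun h => hq.out.one_lt.ne' (Nat.dvd_one.mp h)
      · have hTp : IsPGroup p (T : Subgroup Y) := T.isPGroup'
        set Z : Subgroup Y := (zt p (T : Subgroup Y)).map (T : Subgroup Y).subtype with hZ
        have hZT : Z ≤ (T : Subgroup Y) := map_subtype_le _
        have hfac := factorizable hpq h23 hY hO'
        have hZom : Z = omegaOne p ((T : Subgroup Y) ⊓ centralizer ((T : Subgroup Y) : Set Y)) :=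
          zt_map p _
        have hJ : ∀ y ∈ normalizer (thompsonSubgroupOf p (T : Subgroup Y) : Set Y),
            y ∈ centralizer (Z : Set Y) := by
          set J := thompsonSubgroupOf p (T : Subgroup Y) with hJdef
          set M := normalizer (J : Set Y) with hM
          have hTM : (T : Subgroup Y) ≤ M :=
            (Subgroup.le_normalizer).trans (H34.normalizer_le_normalizer_thompson p _)
          have hZJ : Z ≤ J := Subgroup.map_mono (zt_le_thompson hTp)
          have h1 : (centralizer (Z : Set Y)).subgroupOf M = ⊤ := by
            refine eq_top_of_elements (p := p) (q := q) ?_ _ (T.subtype hTM) ?_ ?_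
            · intro r hr hd
              exact hY r hr (hd.trans (Subgroup.card_subgroup_dvd_card M))
            · intro x hx
              rw [mem_subgroupOf, mem_centralizer_iff]
              have hx' : (x : Y) ∈ (T : Subgroup Y) := hx
              intro z hz
              rw [hZom] at hz
              have hz' := (H36.Omega.mem_inf_centralizer.mp (H36.Omega.omegaOne_le _ hz)).2 x hx'
              exact hz'.symm
            · rintro y ⟨k, hk⟩
              rw [mem_subgroupOf]
              have h2 := hH (thompsonSubgroup p (T : Subgroup Y)) S0602.result.1 (y : Y) y.2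
                ⟨k, by rw [← hk, Subgroup.orderOf_coe]⟩
              exact centralizer_le hZJ h2
          intro y hy
          have : (⟨y, hy⟩ : M) ∈ (centralizer (Z : Set Y)).subgroupOf M := by rw [h1]; exact mem_top _
          exact this
        have hcent : ∀ g : Y, g ∈ centralizer (Z : Set Y) := by
          intro g
          obtain ⟨x, hx, c, hc, m, hm, rfl⟩ := hfac T g
          rw [hO', mem_bot] at hx
          rw [hx, one_mul]
          rw [← hZom] at hc
          exact Subgroup.mul_mem _ hc (hJ m hm)
        have hZc : Z ≤ center Y := by
          intro z hz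
          rw [mem_center_iff]
          intro g
          exact (mem_centralizer_iff.mp (hcent g) z hz).symm
        have hZn : Z.Normal := by
          constructor
          intro z hz g
          have := mem_center_iff.mp (hZc hz) g
          rw [this, mul_inv_cancel_right]
          exact hz
        have hZne : Z ≠ ⊥ := by
          intro h0
          have h1 := zt_ne_bot hTp hT
          apply h1
          rw [hZ, Subgroup.map_eq_bot_iff, ker_subtype] at h0
          exact le_bot_iff.mp h0
        have hlt : Nat.card (Y ⧸ Z) < n := by rw [← hcard]; exact PQ.card_quot_lt hZne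
        have hZs : (Z.subgroupOf (T : Subgroup Y)).Characteristic := by
          have : Z.subgroupOf (T : Subgroup Y) = zt p (T : Subgroup Y) := by
            rw [hZ, subgroupOf, comap_map_eq_self_of_injective (subtype_injective _)]
          rw [this]
          exact zt_char p
        have hHq : Hyp q ((T.mapSurjective (QuotientGroup.mk'_surjective Z) : Sylow p (Y ⧸ Z)) :
            Subgroup (Y ⧸ Z)) := Hyp.quot hTp hH Z (Or.inr ⟨hZT, hZs⟩)
        obtain ⟨Lb, hLn, hLq, hLi⟩ := ih _ hlt (Y ⧸ Z) (T.mapSurjective (QuotientGroup.mk'_surjective Z))
          rfl (hYq Z hZn) hHq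
        -- `Lb` is trivial
        set L := Lb.comap (QuotientGroup.mk' Z) with hL
        have hZL : Z ≤ L := by
          intro z hz
          show QuotientGroup.mk' Z z ∈ Lb
          have : QuotientGroup.mk' Z z = 1 := (QuotientGroup.eq_one_iff z).mpr hz
          rw [this]; exact Lb.one_mem
        let f : L →* Lb := ((QuotientGroup.mk' Z).comp L.subtype).codRestrict Lb (fun x => x.2)
        have hfker : f.ker ≤ center L := by
          intro x hx
          have h1 : QuotientGroup.mk' Z (x : Y) = 1 := congrArg Subtype.val (MonoidHom.mem_ker.mp hx)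
          have h2 : (x : Y) ∈ Z := (QuotientGroup.eq_one_iff _).mp h1
          rw [mem_center_iff]
          intro g
          exact Subtype.ext (mem_center_iff.mp (hZc h2) g)
        haveI : Group.IsNilpotent Lb := hLq.isNilpotent
        haveI : Group.IsNilpotent L := Subgroup.isNilpotent_of_ker_le_center f hfker
        obtain ⟨Q⟩ : Nonempty (Sylow q L) := inferInstance
        have hQn : (Q : Subgroup L).Normal := by
          have h := (Group.isNilpotent_of_finite_tfae (G := L)).out 0 3
          exact (h.mp inferInstance) q hq Q
        have hQc : (Q : Subgroup L).Characteristic := Q.characteristic_of_normal hQn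
        have hLnn : L.Normal := hLn.comap _
        have hQY : ((Q : Subgroup L).map L.subtype).Normal := inferInstance
        have hQb : (Q : Subgroup L).map L.subtype = ⊥ := by
          rw [eq_bot_iff, ← hO]
          exact Solv.le_pCore hQY (Q.isPGroup'.map _)
        have hqL : ¬ q ∣ Nat.card L := by
          have h1 : (Q : Subgroup L) = ⊥ := by
            rw [Subgroup.map_eq_bot_iff, ker_subtype] at hQb
            exact le_bot_iff.mp hQb
          have := Q.not_dvd_index
          rwa [h1, Subgroup.index_bot] at this
        refine ⟨⊥, inferInstance, IsPGroup.of_bot, ?_⟩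
        rw [Subgroup.index_bot]
        intro hd
        rw [← L.card_mul_index] at hd
        rcases (Nat.Prime.dvd_mul hq.out).mp hd with h | h
        · exact hqL h
        · rw [hL, Subgroup.index_comap_of_surjective Lb (QuotientGroup.mk'_surjective Z)] at h
          exact hLi h
    · have hlt : Nat.card (Y ⧸ pCore q Y) < n := by rw [← hcard]; exact PQ.card_quot_lt hO
      have hOq : IsPGroup q (pCore q Y) := Solv.pCore_isPGroup q
      have hcop : (Nat.card (pCore q Y)).Coprime p := by
        obtain ⟨k, hk⟩ := IsPGroup.iff_card.mp hOq
        rw [hk]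
        exact Nat.Coprime.pow_left k ((Nat.coprime_primes hq.out hp.out).mpr hpq.symm)
      have hHq : Hyp q ((T.mapSurjective (QuotientGroup.mk'_surjective (pCore q Y)) :
          Sylow p (Y ⧸ pCore q Y)) : Subgroup (Y ⧸ pCore q Y)) :=
        Hyp.quot T.isPGroup' hH (pCore q Y) (Or.inl hcop)
      obtain ⟨Lb, hLn, hLq, hLi⟩ := ih _ hlt (Y ⧸ pCore q Y)
        (T.mapSurjective (QuotientGroup.mk'_surjective (pCore q Y))) rfl (hYq _ inferInstance) hHq
      refine ⟨Lb.comap (QuotientGroup.mk' (pCore q Y)), hLn.comap _, ?_, ?_⟩
      · apply hLq.comap_of_ker_isPGroup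
        rw [QuotientGroup.ker_mk']
        exact hOq
      · rw [Subgroup.index_comap_of_surjective Lb (QuotientGroup.mk'_surjective _)]
        exact hLi

end Cfsg.Agent.H11.AutoA
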