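import Cfsg.Agent.H11.AutoB
import Cfsg.Agent.ZJ.Core
import Cfsg.Agent.H46.Qd3
import Cfsg.Agent.ZJ.Functor

/-!
# Automizers: reduction to `{p,q}`-groups (helper11)
-/

set_option autoImplicit false
set_option linter.style.haveILetI false

namespace Cfsg.Agent.H11.AutoA

open Subgroup Cfsg

universe u

theorem Hyp.restrict {X G : Type*} [Group X] [Group G] {q : ℕ} (f : X →* G)
    (hf : Function.Injective f) {T : Subgroup X} (h : Hyp q (T.map f)) : Hyp q T := by
  intro K hK y hy ⟨k, hk⟩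
  let e : T ≃* T.map f := T.equivMapOfInjective f hf
  have he : ∀ x : T, ((e x : T.map f) : G) = f x := fun x => rfl
  have hK' : (K.comap e.symm.toMonoidHom).Characteristic := by
    apply char_comap _ e.symm.surjective _ hK
    have : e.symm.toMonoidHom.ker = ⊥ := (MonoidHom.ker_eq_bot_iff _).mpr e.symm.injective
    rw [this]; infer_instance
  have hmap : (K.comap e.symm.toMonoidHom).map (T.map f).subtype = (K.map T.subtype).map f := by
    ext z
    constructor
    · rintro ⟨w, hw, rfl⟩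
      refine ⟨(e.symm w : T), ⟨e.symm w, hw, rfl⟩, ?_⟩
      rw [← he, e.apply_symm_apply]; rfl
    · rintro ⟨_, ⟨x, hx, rfl⟩, rfl⟩
      refine ⟨e x, ?_, rfl⟩
      show e.symm (e x) ∈ K
      rw [e.symm_apply_apply]; exact hx
  have h1 : f y ∈ normalizer (((K.comap e.symm.toMonoidHom).map (T.map f).subtype : Subgroup G) : Set G) := by
    rw [hmap, mem_normalizer_iff]
    intro g
    constructor
    · rintro ⟨x, hx, rfl⟩
      exact ⟨y * x * y⁻¹, (mem_normalizer_iff.mp hy x).mp hx, by simp⟩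
    · rintro ⟨x, hx, hxg⟩
      refine ⟨y⁻¹ * x * y, ?_, ?_⟩
      · apply (mem_normalizer_iff.mp hy _).mpr
        have e : y * (y⁻¹ * x * y) * y⁻¹ = x := by group
        rw [e]; exact hx
      · rw [map_mul, map_mul, map_inv, hxg]; group
  have h2 := h _ hK' (f y) h1 ⟨k, by rw [orderOf_injective f hf]; exact hk⟩
  rw [hmap] at h2
  rw [mem_centralizer_iff]
  intro x hx
  have h3 := mem_centralizer_iff.mp h2 (f x) ⟨x, hx, rfl⟩
  rw [← map_mul, ← map_mul] at h3
  exact hf h3

/-- A `q`-element in a group with normal subgroup of index prime to `q` lies in it. -/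
theorem mem_of_qelement {X : Type*} [Group X] [Finite X] {q : ℕ} (hq : q.Prime) (L : Subgroup X)
    [L.Normal] (hL : ¬ q ∣ L.index) {y : X} {k : ℕ} (hy : orderOf y = q ^ k) : y ∈ L := by
  rw [← QuotientGroup.eq_one_iff, ← orderOf_eq_one_iff]
  have h1 : orderOf (QuotientGroup.mk y : X ⧸ L) ∣ q ^ k := by
    rw [← hy]; exact orderOf_map_dvd (QuotientGroup.mk' L) y
  have h2 : orderOf (QuotientGroup.mk y : X ⧸ L) ∣ L.index := orderOf_dvd_natCard _
  have h3 : Nat.Coprime (q ^ k) L.index :=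
    Nat.Coprime.pow_left k ((Nat.Prime.coprime_iff_not_dvd hq).mpr hL)
  exact Nat.eq_one_of_dvd_coprimes h3 h1 h2

/-- conversely -/
theorem exists_qelement {X : Type*} [Group X] [Finite X] {q : ℕ} [hq : Fact q.Prime] (L : Subgroup X)
    (hL : q ∣ L.index) : ∃ y : X, y ∉ L ∧ ∃ k, orderOf y = q ^ k := by
  obtain ⟨Q⟩ : Nonempty (Sylow q X) := inferInstance
  have : ¬ (Q : Subgroup X) ≤ L := by
    intro h
    exact Q.not_dvd_index (hL.trans (Subgroup.index_dvd_of_le h))
  obtain ⟨y, hy, hyL⟩ := Set.not_subset.mp this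
  refine ⟨y, hyL, ?_⟩
  obtain ⟨k, hk⟩ := IsPGroup.iff_orderOf.mp Q.isPGroup' ⟨y, hy⟩
  exact ⟨k, by rw [← hk]; exact (Subgroup.orderOf_mk y hy).symm⟩

/-- conjugating an `r`-subgroup into a subgroup of index prime to `r` -/
theorem conj_into {M : Type*} [Group M] [Finite M] {r : ℕ} [hr : Fact r.Prime] (P Y : Subgroup M)
    (hP : IsPGroup r P) (hY : ¬ r ∣ Y.index) :
    ∃ g : M, P.map (MulAut.conj g).toMonoidHom ≤ Y := by
  obtain ⟨R⟩ : Nonempty (Sylow r Y) := inferInstance
  have h1 : IsPGroup r ((R : Subgroup Y).map Y.subtype) := R.isPGroup'.map _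
  have h2 : ¬ r ∣ ((R : Subgroup Y).map Y.subtype).index := by
    rw [Subgroup.index_map_subtype]
    intro h
    rcases (Nat.Prime.dvd_mul hr.out).mp h with h | h
    · exact R.not_dvd_index h
    · exact hY h
  obtain ⟨S, hS⟩ := hP.exists_le_sylow
  obtain ⟨g, hg⟩ := MulAction.exists_smul_eq M S (h1.toSylow h2)
  refine ⟨g, ?_⟩
  refine (Subgroup.map_mono hS).trans ?_
  have h3 : ((g • S : Sylow r M) : Subgroup M) = (R : Subgroup Y).map Y.subtype := by
    rw [hg, IsPGroup.toSylow_coe]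
  have h4 : ((g • S : Sylow r M) : Subgroup M) = (S : Subgroup M).map (MulAut.conj g).toMonoidHom := rfl
  rw [← h4, h3]
  exact map_subtype_le _

theorem key {p q : ℕ} [hp : Fact p.Prime] [hq : Fact q.Prime] (hpq : p ≠ q)
    (h23 : ¬ ((p = 2 ∧ q = 3) ∨ (p = 3 ∧ q = 2))) {X : Type u} [Group X] [Finite X] (T : Sylow p X)
    (H : Subgroup X) [hHn : H.Normal] (hH : IsPGroup p H)
    (hs : IsPSolvable p (X ⧸ centralizer (H : Set X))) (hqd : q ∣ (centralizer (H : Set X)).index)
    (hHyp : Hyp q (T : Subgroup X)) : False := by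
  set C := centralizer (H : Set X) with hC
  set D : Subgroup X := (T : Subgroup X) ⊓ C with hD
  set M := normalizer (D : Set X) with hM
  have hTM : (T : Subgroup X) ≤ M := by
    intro t ht
    rw [hM, mem_normalizer_iff]
    intro x
    rw [hD, mem_inf, mem_inf]
    have h1 : x ∈ (T : Subgroup X) ↔ t * x * t⁻¹ ∈ (T : Subgroup X) := by
      rw [Subgroup.mul_mem_cancel_right _ (Subgroup.inv_mem _ ht), Subgroup.mul_mem_cancel_left _ ht]
    have h2 : x ∈ C ↔ t * x * t⁻¹ ∈ C := by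
      constructor
      · intro hx; exact (inferInstance : C.Normal).conj_mem x hx t
      · intro hx
        have := (inferInstance : C.Normal).conj_mem _ hx t⁻¹
        have e : t⁻¹ * (t * x * t⁻¹) * t⁻¹⁻¹ = x := by group
        rwa [e] at this
    rw [h1, h2]
  -- `M` is `p`-solvable
  have hps : IsPSolvable p M := by
    let g : M →* X ⧸ C := (QuotientGroup.mk' C).comp M.subtype
    have hgk : g.ker = (M ⊓ C).subgroupOf M := by
      ext x
      rw [MonoidHom.mem_ker, mem_subgroupOf, mem_inf]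
      constructor
      · intro hx
        exact ⟨x.2, (QuotientGroup.eq_one_iff (x : X)).mp hx⟩
      · intro hx
        exact (QuotientGroup.eq_one_iff (x : X)).mpr hx.2
    have hDn : (D.subgroupOf M).Normal := by
      rw [hM]; infer_instance
    have hDM : D ≤ M ⊓ C := le_inf (inf_le_left.trans hTM) inf_le_right
    have h1 : IsPSolvable p g.ker := by
      have hP₀n : ((D.subgroupOf M).subgroupOf g.ker).Normal := inferInstance
      have hDp : IsPGroup p D := T.isPGroup'.to_le inf_le_left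
      have hP₀ : IsPGroup p ((D.subgroupOf M).subgroupOf g.ker) :=
        (hDp.comap_of_injective M.subtype M.subtype_injective).comap_of_injective _
          (Subgroup.subtype_injective _)
      obtain ⟨a, ha⟩ := IsPGroup.iff_card.mp hP₀
      refine Fus.PSol.isPSolvable_ext _ ((D.subgroupOf M).subgroupOf g.ker) rfl
        (Fus.PSol.isPSolvable_of_pgroup ha) (Fus.PSol.isPSolvable_of_coprime ?_)
      have h2 : Nat.card (g.ker ⧸ (D.subgroupOf M).subgroupOf g.ker) = D.relIndex (M ⊓ C) := by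
        show ((D.subgroupOf M).relIndex g.ker) = _
        rw [hgk, Subgroup.relIndex_subgroupOf inf_le_left]
      rw [h2]
      have h3 : ¬ p ∣ D.relIndex C := by
        obtain ⟨P, hP⟩ := ZJ.exists_sylow_map_eq_inf T C
        rw [hD, ← hP]
        have : ((P : Subgroup C).map C.subtype).subgroupOf C = (P : Subgroup C) := by
          rw [subgroupOf, comap_map_eq_self_of_injective C.subtype_injective]
        rw [relIndex, this]
        exact P.not_dvd_index
      have h4 := Subgroup.relIndex_mul_relIndex D (M ⊓ C) C hDM inf_le_right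
      apply Nat.Coprime.symm
      rw [Nat.Prime.coprime_iff_not_dvd hp.out]
      intro hd
      exact h3 (hd.trans ⟨_, h4.symm⟩)
    exact Fus.PSol.isPSolvable_ext _ g.ker rfl h1
      (H76.isPSolvable_of_injective (QuotientGroup.kerLift g) (QuotientGroup.kerLift_injective g) hs)
  -- a `q`-element of `M` outside `C`
  obtain ⟨y, hyM, hyC, j, hyj⟩ : ∃ y ∈ M, y ∉ C ∧ ∃ j, orderOf y = q ^ j := by
    obtain ⟨x, hxC, k, hk⟩ := exists_qelement C hqd
    obtain ⟨a, ha, l, hl, rfl⟩ := ZJ.exists_mul_of_frattini T C x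
    have hal : QuotientGroup.mk' C (a * l) = QuotientGroup.mk' C a := by
      rw [map_mul]
      have : QuotientGroup.mk' C l = 1 := (QuotientGroup.eq_one_iff l).mpr hl
      rw [this, mul_one]
    have h1 : orderOf (QuotientGroup.mk' C a) ∣ q ^ k := by
      rw [← hal, ← hk]; exact orderOf_map_dvd _ _
    obtain ⟨k', -, hk'⟩ := (Nat.dvd_prime_pow hq.out).mp h1
    obtain ⟨m, hm1, hm2⟩ := exists_qpart (QuotientGroup.mk' C) a hq.out hk'
    refine ⟨a ^ m, Subgroup.pow_mem _ ha m, ?_, hm1⟩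
    intro h2
    apply hxC
    rw [← QuotientGroup.eq_one_iff]
    have h3 : QuotientGroup.mk' C (a ^ m) = 1 := (QuotientGroup.eq_one_iff _).mpr h2
    rw [hm2, ← hal] at h3
    exact h3
  -- Hall subgroup
  obtain ⟨Y, hY1, hY2, hY3⟩ := PQ.exists_pq_hall hpq _ M hps rfl
  obtain ⟨g, hg⟩ := conj_into ((T : Subgroup X).subgroupOf M) Y
    (T.isPGroup'.comap_of_injective M.subtype M.subtype_injective) hY2
  have hyq : IsPGroup q (zpowers (⟨y, hyM⟩ : M)) := by
    apply IsPGroup.of_card (n := j)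
    rw [Nat.card_zpowers, ← hyj]
    exact Subgroup.orderOf_mk y hyM
  obtain ⟨h, hh⟩ := conj_into (zpowers (⟨y, hyM⟩ : M)) Y (r := q) hyq hY3
  set Y' : Subgroup M := Y.map (MulAut.conj g⁻¹).toMonoidHom with hY'
  have hcardY' : Nat.card Y' = Nat.card Y :=
    Nat.card_congr (Y.equivMapOfInjective _ (MulAut.conj g⁻¹).injective).symm.toEquiv
  have hTY' : (T : Subgroup X).subgroupOf M ≤ Y' := by
    intro x hx
    refine ⟨g * x * g⁻¹, hg ⟨x, hx, rfl⟩, ?_⟩
    show g⁻¹ * (g * x * g⁻¹) * g⁻¹⁻¹ = x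
    group
  set z : M := g⁻¹ * (h * ⟨y, hyM⟩ * h⁻¹) * g with hz
  have hzY' : z ∈ Y' := by
    refine ⟨h * ⟨y, hyM⟩ * h⁻¹, hh ⟨⟨y, hyM⟩, mem_zpowers _, rfl⟩, ?_⟩
    show g⁻¹ * (h * ⟨y, hyM⟩ * h⁻¹) * g⁻¹⁻¹ = z
    rw [inv_inv]
  set Y₀ : Subgroup X := Y'.map M.subtype with hY₀
  have hTY₀ : (T : Subgroup X) ≤ Y₀ := by
    intro x hx
    exact ⟨⟨x, hTM hx⟩, hTY' (mem_subgroupOf.mpr hx), rfl⟩
  have hcardY₀ : Nat.card Y₀ = Nat.card Y := by
    rw [← hcardY']
    exact Nat.card_congr (Y'.equivMapOfInjective _ M.subtype_injective).symm.toEquiv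
  have hHyp0 : Hyp q ((T.subtype hTY₀ : Sylow p Y₀) : Subgroup Y₀) := by
    apply Hyp.restrict Y₀.subtype Y₀.subtype_injective
    have : (((T.subtype hTY₀ : Sylow p Y₀) : Subgroup Y₀)).map Y₀.subtype = (T : Subgroup X) := by
      rw [Sylow.coe_subtype, subgroupOf_map_subtype, inf_eq_left.mpr hTY₀]
    rw [this]
    exact hHyp
  obtain ⟨L, hLn, hLq, hLi⟩ := main hpq h23 _ Y₀ (T.subtype hTY₀) rfl
    (by rw [hcardY₀]; exact hY1) hHyp0
  have hzY₀ : (z : X) ∈ Y₀ := ⟨z, hzY', rfl⟩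
  have hz' : (z : X) = ((g : X)⁻¹ * h) * y * ((g : X)⁻¹ * h)⁻¹ := by
    rw [hz]; push_cast; group
  have hzo : orderOf (⟨z, hzY₀⟩ : Y₀) = q ^ j := by
    rw [Subgroup.orderOf_mk, hz', ← hyj]
    exact orderOf_injective (MulAut.conj ((g : X)⁻¹ * h)).toMonoidHom (MulAut.conj _).injective y
  have hzL : (⟨z, hzY₀⟩ : Y₀) ∈ L := mem_of_qelement hq.out L hLi hzo
  have hHT : H ≤ (T : Subgroup X) := (Solv.le_pCore hHn hH).trans (Solv.pCore_le_sylow T)
  have hHY : H ≤ Y₀ := hHT.trans hTY₀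
  have hdis : Disjoint (H.subgroupOf Y₀) L := by
    apply IsPGroup.disjoint_of_ne p q hpq
    · exact hH.comap_of_injective _ Y₀.subtype_injective
    · exact hLq
  have hcomm : ∀ a ∈ H.subgroupOf Y₀, ∀ b ∈ L, Commute a b :=
    fun a ha b hb => Subgroup.commute_of_normal_of_disjoint _ _ inferInstance hLn hdis a b ha hb
  have hzC : (z : X) ∈ C := by
    rw [hC, mem_centralizer_iff]
    intro a ha
    have := hcomm ⟨a, hHY ha⟩ (mem_subgroupOf.mpr ha) _ hzL
    exact congrArg Subtype.val this.eq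
  apply hyC
  have hCn : C.Normal := inferInstance
  have := hCn.conj_mem _ hzC (((g : X)⁻¹ * h)⁻¹)
  rw [hz'] at this
  have e : ((g : X)⁻¹ * h)⁻¹ * (((g : X)⁻¹ * h) * y * ((g : X)⁻¹ * h)⁻¹) * (((g : X)⁻¹ * h)⁻¹)⁻¹ = y := by
    group
  rwa [e] at this

end Cfsg.Agent.H11.AutoA
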