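import Cfsg.Agent.H75.Monomial
import Cfsg.Agent.Char.Homog
import Cfsg.Agent.Char.CentralChar
import Cfsg.Agent.H76.AlperinDade2
import Mathlib.GroupTheory.RegularWreathProduct

/-!
# Wreath products of M-groups with groups of prime order (helper11)
-/

set_option autoImplicit false
set_option linter.style.haveILetI false

namespace Cfsg.Agent.H11.DadeEmb

open scoped ComplexConjugate BigOperators
open Cfsg Cfsg.Agent.CharBase Cfsg.Agent.Char Cfsg.Agent.H75

universe u

section pi

variable {ι : Type u} [Fintype ι] {H : Type u} [Group H] [Fintype H]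

omit [Fintype ι] [Fintype H] in
theorem isCharacter_prod_finset (s : Finset ι) (θ : ι → H → ℂ) (hθ : ∀ i, IsCharacter H (θ i)) :
    IsCharacter (ι → H) (fun f => ∏ i ∈ s, θ i (f i)) := by
  classical
  induction s using Finset.induction_on with
  | empty => simpa using (Char.isCharacter_one (G := ι → H))
  | insert a s ha ih =>
    have h1 := isCharacter_comp (hθ a) (Pi.evalMonoidHom (fun _ : ι => H) a)
    have h2 := isCharacter_mul h1 ih
    have h3 : (fun f : ι → H => ∏ i ∈ insert a s, θ i (f i)) =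
        (θ a ∘ (Pi.evalMonoidHom (fun _ : ι => H) a)) * fun f => ∏ i ∈ s, θ i (f i) := by
      funext f
      rw [Finset.prod_insert ha]
      rfl
    rw [h3]
    exact h2

theorem classInner_pi (θ θ' : ι → H → ℂ) [I : Fintype (ι → H)] :
    classInner (fun f : ι → H => ∏ i, θ i (f i)) (fun f : ι → H => ∏ i, θ' i (f i)) =
      ∏ i, classInner (θ i) (θ' i) := by
  classical
  have e : I = (Pi.instFintype : Fintype (ι → H)) := Subsingleton.elim _ _
  subst e
  unfold classInner
  rw [Finset.prod_mul_distrib, Finset.prod_univ_sum, Fintype.piFinset_univ]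
  congr 1
  · rw [Finset.prod_const, Nat.card_fun, Finset.card_univ, ← Nat.card_eq_fintype_card]
    push_cast
    rw [inv_pow]
  · refine Finset.sum_congr rfl (fun f _ => ?_)
    rw [map_prod, Finset.prod_mul_distrib]

theorem isIrr_pi (θ : ι → IrrCharacter H) :
    IsIrrCharacter (ι → H) (fun f => ∏ i, (θ i : H → ℂ) (f i)) := by
  classical
  have hc := isCharacter_prod_finset Finset.univ (fun i => (θ i : H → ℂ))
    (fun i => irr_isCharacter (θ i))
  rw [isIrrCharacter_iff hc, classInner_pi]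
  apply Finset.prod_eq_one
  intro i _
  exact classInner_irr_self _

/-- irreducible characters of a power -/
theorem exists_pi {χ : (ι → H) → ℂ} (hχ : IsIrrCharacter (ι → H) χ) :
    ∃ θ : ι → IrrCharacter H, χ = fun f => ∏ i, (θ i : H → ℂ) (f i) := by
  classical
  by_contra hno
  push Not at hno
  haveI : Fintype (IrrCharacter H) := Fintype.ofFinite _
  have h0 : ∀ θ : ι → IrrCharacter H,
      classInner χ (fun f : ι → H => ∏ i, (θ i : H → ℂ) (f i)) = 0 := by
    intro θ
    exact classInner_eq_zero_of_irr_ne hχ (isIrr_pi θ) (hno θ)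
  have hd : ∀ ξ : IrrCharacter H, conj ((ξ : H → ℂ) 1) = (ξ : H → ℂ) 1 := by
    intro ξ
    rw [← irr_inv, inv_one]
  have h1 : ∑ θ : ι → IrrCharacter H, (∏ i, (θ i : H → ℂ) 1) *
      classInner χ (fun f : ι → H => ∏ i, (θ i : H → ℂ) (f i)) = 0 :=
    Finset.sum_eq_zero (fun θ _ => by rw [h0, mul_zero])
  have h2 : ∀ f : ι → H, ∑ θ : ι → IrrCharacter H, ((∏ i, (θ i : H → ℂ) 1) *
      ∏ i, (θ i : H → ℂ) (f i)) = if f = 1 then (Nat.card (ι → H) : ℂ) else 0 := by
    intro f
    have h3 : ∏ i, ∑ ξ : IrrCharacter H, (ξ : H → ℂ) 1 * (ξ : H → ℂ) (f i) =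
        if f = 1 then (Nat.card (ι → H) : ℂ) else 0 := by
      rw [Finset.prod_congr rfl (fun i _ => sum_degree_mul (f i))]
      by_cases hf : f = 1
      · subst hf
        simp only [Pi.one_apply, if_true]
        rw [Finset.prod_const, Nat.card_fun, Finset.card_univ, ← Nat.card_eq_fintype_card]
        push_cast
        rfl
      · rw [if_neg hf]
        obtain ⟨i, hi⟩ := Function.ne_iff.mp hf
        exact Finset.prod_eq_zero (Finset.mem_univ i) (if_neg hi)
    rw [← h3, Finset.prod_univ_sum, Fintype.piFinset_univ]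
    refine Finset.sum_congr rfl (fun θ _ => ?_)
    rw [Finset.prod_mul_distrib]
  have h4 : ∑ θ : ι → IrrCharacter H, (∏ i, (θ i : H → ℂ) 1) *
      classInner χ (fun f : ι → H => ∏ i, (θ i : H → ℂ) (f i)) = χ 1 := by
    unfold classInner
    have h5 : ∀ θ : ι → IrrCharacter H, (∏ i, (θ i : H → ℂ) 1) *
        ((Nat.card (ι → H) : ℂ)⁻¹ * ∑ f : ι → H, χ f * conj (∏ i, (θ i : H → ℂ) (f i))) =
        (Nat.card (ι → H) : ℂ)⁻¹ * ∑ f : ι → H, χ f * conj ((∏ i, (θ i : H → ℂ) 1) *
          ∏ i, (θ i : H → ℂ) (f i)) := by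
      intro θ
      rw [mul_left_comm, Finset.mul_sum]
      congr 1
      refine Finset.sum_congr rfl (fun f _ => ?_)
      rw [map_mul, map_prod (starRingEnd ℂ) (fun i => (θ i : H → ℂ) 1),
        Finset.prod_congr rfl (fun i _ => hd (θ i))]
      ring
    rw [Finset.sum_congr rfl (fun θ _ => h5 θ), ← Finset.mul_sum, Finset.sum_comm]
    have h6 : ∀ f : ι → H, ∑ θ : ι → IrrCharacter H, χ f * conj ((∏ i, (θ i : H → ℂ) 1) *
          ∏ i, (θ i : H → ℂ) (f i)) = if f = 1 then χ 1 * (Nat.card (ι → H) : ℂ) else 0 := by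
      intro f
      rw [← Finset.mul_sum, ← map_sum, h2]
      by_cases hf : f = 1
      · rw [if_pos hf, if_pos hf, hf, Complex.conj_natCast]
      · rw [if_neg hf, if_neg hf, map_zero, mul_zero]
    rw [Finset.sum_congr rfl (fun f _ => h6 f), Finset.sum_ite_eq' Finset.univ (1 : ι → H)]
    rw [if_pos (Finset.mem_univ _)]
    have : (Nat.card (ι → H) : ℂ) ≠ 0 := by exact_mod_cast Nat.card_pos.ne'
    field_simp
  rw [h4] at h1
  exact irr_one_ne_zero hχ h1

/-- product of subgroups -/
noncomputable def piLam (K : ι → Subgroup H) (lam : ∀ i, K i →* ℂˣ) :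
    (Subgroup.pi Set.univ K) →* ℂˣ where
  toFun f := ∏ i, lam i ⟨f.1 i, f.2 i (Set.mem_univ i)⟩
  map_one' := by
    apply Finset.prod_eq_one
    intro i _
    exact (lam i).map_one
  map_mul' f g := by
    rw [← Finset.prod_mul_distrib]
    refine Finset.prod_congr rfl (fun i _ => ?_)
    rw [← map_mul]
    rfl

omit [Fintype H] in
theorem card_pi_subgroup (K : ι → Subgroup H) :
    Nat.card (Subgroup.pi Set.univ K) = ∏ i, Nat.card (K i) := by
  classical
  rw [← Nat.card_pi]
  refine Nat.card_congr ⟨fun f i => ⟨f.1 i, f.2 i (Set.mem_univ i)⟩,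
    fun f => ⟨fun i => (f i).1, fun i _ => (f i).2⟩, fun f => rfl, fun f => rfl⟩

theorem indFun_pi (K : ι → Subgroup H) (lam : ∀ i, K i →* ℂˣ) [I : Fintype (ι → H)] (f : ι → H) :
    indFun (Subgroup.pi Set.univ K) (fun g => (piLam K lam g : ℂ)) f =
      ∏ i, indFun (K i) (fun h => (lam i h : ℂ)) (f i) := by
  classical
  have e : I = (Pi.instFintype : Fintype (ι → H)) := Subsingleton.elim _ _
  subst e
  unfold indFun
  rw [Finset.prod_mul_distrib, Finset.prod_univ_sum, Fintype.piFinset_univ, card_pi_subgroup]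
  congr 1
  · push_cast
    rw [Finset.prod_inv_distrib]
  · refine Finset.sum_congr rfl (fun x _ => ?_)
    by_cases h : x⁻¹ * f * x ∈ Subgroup.pi Set.univ K
    · rw [Char.extendByZero_of_mem _ _ h]
      have : ((piLam K lam ⟨x⁻¹ * f * x, h⟩ : ℂˣ) : ℂ) =
          ∏ i, ((lam i ⟨(x⁻¹ * f * x) i, h i (Set.mem_univ i)⟩ : ℂˣ) : ℂ) := by
        rw [← Units.coe_prod]
        rfl
      rw [this]
      refine Finset.prod_congr rfl (fun i _ => ?_)
      exact (Char.extendByZero_of_mem (K i) (fun h => (lam i h : ℂ)) (h i (Set.mem_univ i))).symm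
    · rw [Char.extendByZero_of_notMem _ _ h]
      have : ∃ i, (x⁻¹ * f * x) i ∉ K i := by
        by_contra hc
        push Not at hc
        exact h (fun i _ => hc i)
      obtain ⟨i, hi⟩ := this
      symm
      apply Finset.prod_eq_zero (Finset.mem_univ i)
      exact Char.extendByZero_of_notMem (K i) (fun h => (lam i h : ℂ)) hi

/-- powers of M-groups are M-groups -/
theorem isMonomial_pi (hM : ∀ χ : H → ℂ, IsIrrCharacter H χ → IsMonomialChar χ)
    {χ : (ι → H) → ℂ} [Fintype (ι → H)] (hχ : IsIrrCharacter (ι → H) χ) : IsMonomialChar χ := by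
  classical
  obtain ⟨θ, rfl⟩ := exists_pi hχ
  choose K lam hlam using fun i => hM (θ i) (θ i).2
  refine ⟨Subgroup.pi Set.univ K, piLam K lam, ?_⟩
  funext f
  rw [indFun_pi]
  refine Finset.prod_congr rfl (fun i _ => ?_)
  rw [hlam i]

end pi

/-- transport -/
theorem isMonomial_equiv {A B : Type u} [Group A] [Group B] [Fintype A] [Fintype B] (e : A ≃* B)
    {χ : B → ℂ} (h : IsMonomialChar χ) : IsMonomialChar (fun a => χ (e a)) := by
  classical
  obtain ⟨K, lam, hlam⟩ := h
  let f : (K.comap e.toMonoidHom) →* K :=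
    { toFun := fun x => ⟨e x.1, x.2⟩
      map_one' := by apply Subtype.ext; simp
      map_mul' := fun a b => Subtype.ext (map_mul e a.1 b.1) }
  refine ⟨K.comap e.toMonoidHom, lam.comp f, ?_⟩
  funext a
  rw [hlam]
  unfold indFun
  have hc : Nat.card (K.comap e.toMonoidHom) = Nat.card K := by
    refine Nat.card_congr ⟨f, fun y => ⟨e.symm y.1, ?_⟩, ?_, ?_⟩
    · show e (e.symm y.1) ∈ K
      rw [e.apply_symm_apply]; exact y.2
    · intro x; exact Subtype.ext (e.symm_apply_apply x.1)
    · intro y; exact Subtype.ext (e.apply_symm_apply y.1)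
  rw [hc]
  congr 1
  rw [← Equiv.sum_comp e.toEquiv]
  refine Finset.sum_congr rfl (fun x _ => ?_)
  have e1 : (e.toEquiv x)⁻¹ * e a * e.toEquiv x = e (x⁻¹ * a * x) := by
    show (e x)⁻¹ * e a * e x = _
    simp
  rw [e1]
  by_cases hx : x⁻¹ * a * x ∈ K.comap e.toMonoidHom
  · have hx' : e (x⁻¹ * a * x) ∈ K := hx
    rw [Char.extendByZero_of_mem _ _ hx, Char.extendByZero_of_mem _ _ hx']
    rfl
  · have hx' : e (x⁻¹ * a * x) ∉ K := hx
    rw [Char.extendByZero_of_notMem _ _ hx, Char.extendByZero_of_notMem _ _ hx']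

theorem classInner_equiv {A B : Type*} [Group A] [Group B] [Fintype A] [Fintype B] (e : A ≃* B)
    (φ ψ : B → ℂ) : classInner (fun a => φ (e a)) (fun a => ψ (e a)) = classInner φ ψ := by
  unfold classInner
  rw [Nat.card_congr e.toEquiv]
  congr 1
  exact Equiv.sum_comp e.toEquiv (fun b => φ b * conj (ψ b))

end Cfsg.Agent.H11.DadeEmb
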