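import Cfsg.Agent.H11.DadeEmb
import Cfsg.Agent.Char.ExtCyclic

/-!
# Wreath products of M-groups with groups of prime order, part 2 (helper11)
-/

set_option autoImplicit false
set_option linter.style.haveILetI false

namespace Cfsg.Agent.H11.DadeEmb

open scoped ComplexConjugate BigOperators
open Cfsg Cfsg.Agent.CharBase Cfsg.Agent.Char Cfsg.Agent.H75 Cfsg.Agent.Char.GD

universe u

variable {H Q : Type u} [Group H] [Group Q]

/-- the base group -/
def base (H Q : Type u) [Group H] [Group Q] : Subgroup (H ≀ᵣ Q) :=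
  (RegularWreathProduct.rightHom : H ≀ᵣ Q →* Q).ker

theorem mem_base {w : H ≀ᵣ Q} : w ∈ base H Q ↔ w.right = 1 := Iff.rfl

instance base_normal : (base H Q).Normal := MonoidHom.normal_ker _

/-- the base group is a power -/
def baseEquiv (H Q : Type u) [Group H] [Group Q] : base H Q ≃* (Q → H) where
  toFun w := w.1.left
  invFun f := ⟨⟨f, 1⟩, rfl⟩
  left_inv w := Subtype.ext (RegularWreathProduct.ext rfl (mem_base.mp w.2).symm)
  right_inv f := rfl
  map_mul' a b := by
    have ha : a.1.right = 1 := a.2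
    show (a.1 * b.1).left = _
    rw [RegularWreathProduct.mul_left, ha]
    simp

theorem base_index [Finite Q] : (base H Q).index = Nat.card Q := by
  unfold base
  rw [Subgroup.index_ker]
  have : (RegularWreathProduct.rightHom : H ≀ᵣ Q →* Q).range = ⊤ := by
    rw [MonoidHom.range_eq_top]
    intro q
    exact ⟨RegularWreathProduct.inl q, rfl⟩
  rw [this, Subgroup.card_top]

/-- the subgroup `K ≀ Q` -/
def kSub (K : Subgroup H) (Q : Type u) [Group Q] : Subgroup (H ≀ᵣ Q) where
  carrier := {w | ∀ q, w.left q ∈ K}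
  mul_mem' {a b} ha hb q := by
    rw [RegularWreathProduct.mul_left]
    exact K.mul_mem (ha q) (hb _)
  one_mem' q := by
    rw [RegularWreathProduct.one_left]
    exact K.one_mem
  inv_mem' {a} ha q := by
    rw [RegularWreathProduct.inv_left]
    exact K.inv_mem (ha _)

theorem card_kSub [Finite H] [Finite Q] (K : Subgroup H) :
    Nat.card (kSub K Q) = Nat.card K ^ Nat.card Q * Nat.card Q := by
  have e : kSub K Q ≃ (Q → K) × Q :=
    { toFun := fun w => (fun q => ⟨w.1.left q, w.2 q⟩, w.1.right)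
      invFun := fun x => ⟨⟨fun q => (x.1 q).1, x.2⟩, fun q => (x.1 q).2⟩
      left_inv := fun w => rfl
      right_inv := fun x => rfl }
  rw [Nat.card_congr e, Nat.card_prod, Nat.card_fun]

theorem index_kSub [Finite H] [Finite Q] (K : Subgroup H) :
    (kSub K Q).index = K.index ^ Nat.card Q := by
  have h1 := (kSub K Q).card_mul_index
  rw [card_kSub, RegularWreathProduct.card, ← K.card_mul_index, mul_pow] at h1
  have h2 : 0 < Nat.card K ^ Nat.card Q * Nat.card Q :=
    Nat.mul_pos (pow_pos Nat.card_pos _) Nat.card_pos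
  apply Nat.eq_of_mul_eq_mul_left h2
  rw [h1]; ring

variable [Fintype Q]

/-- canonical extension -/
noncomputable def muHat (K : Subgroup H) (lam : K →* ℂˣ) : kSub K Q →* ℂˣ where
  toFun w := ∏ q, lam ⟨w.1.left q, w.2 q⟩
  map_one' := by
    apply Finset.prod_eq_one
    intro i _
    exact lam.map_one
  map_mul' a b := by
    have h1 : ∏ q, lam ⟨b.1.left q, b.2 q⟩ = ∏ q, lam ⟨b.1.left (a.1.right⁻¹ * q), b.2 _⟩ :=
      (Equiv.prod_comp (Equiv.mulLeft a.1.right⁻¹) (fun q => lam ⟨b.1.left q, b.2 q⟩)).symm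
    rw [h1, ← Finset.prod_mul_distrib]
    refine Finset.prod_congr rfl (fun i _ => ?_)
    rw [← map_mul]
    rfl

/-- the equivalence of the base group of `K ≀ Q` -/
def dEquiv (K : Subgroup H) : (base H Q).subgroupOf (kSub K Q) ≃* (Q → K) where
  toFun w := fun q => ⟨w.1.1.left q, w.1.2 q⟩
  invFun f := ⟨⟨⟨fun q => (f q).1, 1⟩, fun q => (f q).2⟩, rfl⟩
  left_inv w := Subtype.ext (Subtype.ext (RegularWreathProduct.ext rfl (mem_base.mp w.2).symm))
  right_inv f := rfl
  map_mul' a b := by
    have ha : a.1.1.right = 1 := a.2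
    funext q
    apply Subtype.ext
    show (a.1.1 * b.1.1).left q = a.1.1.left q * b.1.1.left q
    rw [RegularWreathProduct.mul_left, ha]
    simp

variable [Fintype H]

theorem inv_case (hQ : ∀ a b : Q, a * b = b * a) [Fintype (H ≀ᵣ Q)] {χ : (H ≀ᵣ Q) → ℂ}
    (hχ : IsIrrCharacter (H ≀ᵣ Q) χ) (K : Subgroup H) (lam : K →* ℂˣ) {ϑ : H → ℂ}
    (hϑ : IsIrrCharacter H ϑ) (hlam : ϑ = indFun K (fun h => (lam h : ℂ)))
    (hf : ∀ f : Q → H, χ ⟨f, 1⟩ = ∏ q, ϑ (f q)) : IsMonomialChar χ := by
  classical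
  haveI : Fintype K := Fintype.ofFinite _
  set T := kSub K Q with hT
  haveI : Fintype T := Fintype.ofFinite _
  set D := (base H Q).subgroupOf T with hD
  haveI : Fintype D := Fintype.ofFinite _
  have hDn : D.Normal := Subgroup.Normal.subgroupOf base_normal T
  let μ : T → ℂ := fun t => ((muHat K lam t : ℂˣ) : ℂ)
  have hμ : IsIrrCharacter T μ := isIrrCharacter_of_hom ((Units.coeHom ℂ).comp (muHat K lam))
  have hμD : IsIrrCharacter D (fun d : D => μ d) :=
    isIrrCharacter_of_hom (((Units.coeHom ℂ).comp (muHat K lam)).comp D.subtype)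
  -- multiplicity one
  have h1 : classInner (fun d : D => χ ((d : T) : H ≀ᵣ Q)) (fun d : D => μ d) = 1 := by
    have e1 := classInner_equiv (dEquiv (Q := Q) K) (fun f : Q → K => ∏ q, ϑ (f q : H))
      (fun f : Q → K => ∏ q, (lam (f q) : ℂ))
    have e2 : (fun d : D => χ ((d : T) : H ≀ᵣ Q)) =
        (fun d => (fun f : Q → K => ∏ q, ϑ (f q : H)) (dEquiv (Q := Q) K d)) := by
      funext d
      have : ((d : T) : H ≀ᵣ Q) = ⟨d.1.1.left, 1⟩ :=
        RegularWreathProduct.ext rfl (mem_base.mp d.2)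
      rw [this, hf]
      rfl
    have e3 : (fun d : D => μ d) =
        (fun d => (fun f : Q → K => ∏ q, (lam (f q) : ℂ)) (dEquiv (Q := Q) K d)) := by
      funext d
      show ((muHat K lam (d : T) : ℂˣ) : ℂ) = ∏ q, ((lam (dEquiv (Q := Q) K d q) : ℂˣ) : ℂ)
      rw [← Units.coe_prod]
      rfl
    rw [e2, e3, e1]
    have e4 := classInner_pi (ι := Q) (H := K) (fun _ k => ϑ (k : H)) (fun _ k => (lam k : ℂ))
    rw [e4]
    apply Finset.prod_eq_one
    intro q _
    rw [← frobenius_reciprocity' K _ _ (isClassFunction_of_isCharacter (isCharacter_of_isIrr hϑ)),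
      ← hlam]
    exact classInner_self_of_irr hϑ
  have hχT : IsCharacter T (fun t : T => χ t) := isCharacter_restrict (isCharacter_of_isIrr hχ) T
  have h2 : classInner (fun t : T => χ t) (indFun D (fun d : D => μ d)) ≠ 0 := by
    rw [frobenius_reciprocity' D _ _ (isClassFunction_of_isCharacter hχT)]
    intro h
    rw [h1] at h
    exact one_ne_zero h
  obtain ⟨ψ, hψ, h3, h4⟩ := exists_common_constituent hχT h2
  rw [frobenius_reciprocity' D _ _ (isClassFunction_of_isCharacter (isCharacter_of_isIrr hψ))] at h4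
  obtain ⟨β, hβ, hβψ⟩ := H76.exists_gallagher D hμD hμ (fun _ => rfl) hψ h4
  have hβ1 : (β : T → ℂ) 1 = 1 := by
    apply CC.degree_one_of_commutator β.2
    intro x y
    apply hβ
    rw [hD, Subgroup.mem_subgroupOf, mem_base, commutatorElement_def]
    show x.1.right * y.1.right * x.1.right⁻¹ * y.1.right⁻¹ = 1
    rw [hQ x.1.right y.1.right]
    group
  have hψ1 : ψ 1 = 1 := by
    rw [hβψ, Pi.mul_apply, hβ1]
    simp [μ]
  have hind : indFun T ψ = χ := by
    have h5 : ϑ 1 = (K.index : ℂ) := by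
      rw [hlam, indFun_one_apply]
      simp
    have h6 : χ 1 = ((K.index ^ Nat.card Q : ℕ) : ℂ) := by
      have := hf 1
      have e : (1 : H ≀ᵣ Q) = ⟨1, 1⟩ := rfl
      rw [e, this]
      simp only [Pi.one_apply, h5, Finset.prod_const, Finset.card_univ,
        ← Nat.card_eq_fintype_card]
      push_cast
      rfl
    refine eq_of_degree_le (n := K.index ^ Nat.card Q) (indFun_isCharacter T ψ (isCharacter_of_isIrr hψ)) hχ ?_
      h6 ?_ le_rfl
    · rw [frobenius_reciprocity T _ _ (isClassFunction_of_isCharacter (isCharacter_of_isIrr hχ))]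
      intro h0
      apply h3
      rw [← CharBase.classInner_conj_symm, h0, map_zero]
    · rw [indFun_one_apply, hψ1, mul_one, hT, index_kSub]
  rw [← hind]
  exact isMonomialChar_of_subgroup T (isMonomialChar_of_linear (isCharacter_of_isIrr hψ) hψ1)

theorem restrict_case (hQ : ∀ a b : Q, a * b = b * a) [Fintype (H ≀ᵣ Q)]
    (hM : ∀ χ : H → ℂ, IsIrrCharacter H χ → IsMonomialChar χ) {χ : (H ≀ᵣ Q) → ℂ}
    (hχ : IsIrrCharacter (H ≀ᵣ Q) χ)
    (hr : IsIrrCharacter (base H Q) (fun w : base H Q => χ w)) : IsMonomialChar χ := by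
  classical
  have h1 := isIrr_comp_equiv (baseEquiv H Q).symm hr
  obtain ⟨θ, hθ⟩ := exists_pi h1
  have h2 : ∀ f : Q → H, χ ⟨f, 1⟩ = ∏ q, (θ q : H → ℂ) (f q) := fun f => congrFun hθ f
  have hcl := isClassFunction_of_isCharacter (isCharacter_of_isIrr hχ)
  have h3 : ∀ q, θ q = θ 1 := by
    intro t
    have h4 : ∀ f : Q → H, χ ⟨f, 1⟩ = ∏ q, (θ (t * q) : H → ℂ) (f q) := by
      intro f
      have e1 := hcl ⟨f, 1⟩ (RegularWreathProduct.inl t)
      have e2 : (RegularWreathProduct.inl t : H ≀ᵣ Q) * ⟨f, 1⟩ * (RegularWreathProduct.inl t)⁻¹ =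
          ⟨fun x => f (t⁻¹ * x), 1⟩ := by
        ext x <;> simp
      rw [← e1, e2, h2]
      rw [← Equiv.prod_comp (Equiv.mulLeft t)]
      refine Finset.prod_congr rfl (fun q _ => ?_)
      simp
    have h5 : classInner (fun f : Q → H => ∏ q, (θ q : H → ℂ) (f q))
        (fun f : Q → H => ∏ q, (θ (t * q) : H → ℂ) (f q)) ≠ 0 := by
      have e : (fun f : Q → H => ∏ q, (θ (t * q) : H → ℂ) (f q)) =
          (fun f : Q → H => ∏ q, (θ q : H → ℂ) (f q)) := by
        funext f
        rw [← h4, h2]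
      rw [e, classInner_self_of_irr (isIrr_pi θ)]
      exact one_ne_zero
    rw [classInner_pi (fun q => (θ q : H → ℂ)) (fun q => (θ (t * q) : H → ℂ)),
      Finset.prod_ne_zero_iff] at h5
    have h6 := h5 1 (Finset.mem_univ _)
    rw [mul_one] at h6
    exact (Subtype.ext (eq_of_classInner_ne_zero (θ 1).2 (θ t).2 h6)).symm
  obtain ⟨K, lam, hlam⟩ := hM (θ 1) (θ 1).2
  refine inv_case hQ hχ K lam (θ 1).2 hlam ?_
  intro f
  rw [h2]
  exact Finset.prod_congr rfl (fun q _ => by rw [h3 q])

/-- Wreath products of M-groups with groups of prime order are M-groups. -/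
theorem isMonomial_wreath (hQ : (Nat.card Q).Prime) [Fintype (H ≀ᵣ Q)]
    (hM : ∀ χ : H → ℂ, IsIrrCharacter H χ → IsMonomialChar χ) {χ : (H ≀ᵣ Q) → ℂ}
    (hχ : IsIrrCharacter (H ≀ᵣ Q) χ) : IsMonomialChar χ := by
  classical
  haveI := Fact.mk hQ
  haveI hcyc : IsCyclic Q := isCyclic_of_prime_card (p := Nat.card Q) rfl
  have hcomm : ∀ a b : Q, a * b = b * a := by
    letI := IsCyclic.commGroup (α := Q)
    exact fun a b => mul_comm a b
  set N := base H Q with hN
  haveI : Fintype N := Fintype.ofFinite _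
  have hidx : N.index = Nat.card Q := base_index
  by_cases hh : Homog χ N
  · obtain ⟨φ, e, hφ, he⟩ := hh
    apply restrict_case hcomm hM hχ
    have he0 : (e : ℂ) ≠ 0 := by
      intro h0
      have := congrFun he 1
      rw [h0, zero_smul] at this
      exact irr_one_ne_zero hχ this
    have hinv : ∀ g, cj N g φ = φ := by
      intro g
      have h1 := cj_restrict N g (isClassFunction_of_isCharacter (isCharacter_of_isIrr hχ))
      rw [he, cj_smul] at h1
      exact smul_right_injective _ he0 h1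
    have hcq : IsCyclic ((H ≀ᵣ Q) ⧸ N) := by
      have : Nat.card ((H ≀ᵣ Q) ⧸ N) = Nat.card Q := hidx
      exact isCyclic_of_prime_card this
    obtain ⟨η, hη, hηφ⟩ := exists_extension_of_cyclic N hcq hφ hinv
    have hne : classInner (fun n : N => χ n) φ ≠ 0 := by
      rw [he, classInner_smul_left, classInner_self_of_irr hφ, mul_one]
      exact he0
    obtain ⟨β, hβ, hβψ⟩ := H76.exists_gallagher N hφ hη hηφ hχ hne
    have hβ1 : (β : (H ≀ᵣ Q) → ℂ) 1 = 1 := by
      apply CC.degree_one_of_commutator β.2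
      intro x y
      apply hβ
      rw [hN, mem_base, commutatorElement_def]
      show x.right * y.right * x.right⁻¹ * y.right⁻¹ = 1
      rw [hcomm x.right y.right]
      group
    have : (fun n : N => χ n) = φ := by
      funext n
      rw [hβψ, Pi.mul_apply, hβ n n.2, hβ1, one_mul, hηφ]
    rw [this]
    exact hφ
  · obtain ⟨T, hNT, hTt, ψ, hψ, hind⟩ := exists_induced_of_not_homog hχ N hh
    have hTN : T = N := by
      have h1 := Subgroup.relIndex_mul_index hNT
      rw [hidx] at h1
      have h2 : T.index ∣ Nat.card Q := Dvd.intro_left _ h1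
      rcases (Nat.dvd_prime hQ).mp h2 with h3 | h3
      · exact absurd (Subgroup.index_eq_one.mp h3) hTt
      · rw [h3] at h1
        have h4 : N.relIndex T = 1 :=
          Nat.eq_of_mul_eq_mul_right (Nat.card_pos (α := Q)) (by rw [h1, one_mul])
        exact le_antisymm (Subgroup.relIndex_eq_one.mp h4) hNT
    subst hTN
    rw [← hind]
    apply isMonomialChar_of_subgroup
    have h5 := isMonomial_pi hM (isIrr_comp_equiv (baseEquiv H Q).symm hψ)
    have h6 := isMonomial_equiv (baseEquiv H Q) h5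
    have h7 : (fun a => ψ ((baseEquiv H Q).symm ((baseEquiv H Q) a))) = ψ := by
      funext a
      rw [MulEquiv.symm_apply_apply]
    rw [h7] at h6
    exact h6

end Cfsg.Agent.H11.DadeEmb
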