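import Cfsg.Agent.H65.RegP
import Cfsg.Agent.H65.MetaCrit
import Cfsg.Agent.H72.MetaAut

/-!
# Metacyclic `p`-groups (`p` odd) without cyclic subgroup of index `p` (helper11, S4079)
-/

set_option autoImplicit false

namespace Cfsg.Agent.H11.MA

open Subgroup
open scoped commutatorElement

variable {L : Type*} [Group L] [Finite L] {p : ℕ} [hpf : Fact p.Prime]

/-- the situation -/
structure Ctx (L : Type*) [Group L] [Finite L] (p : ℕ) [Fact p.Prime] : Prop where
  hp : p ≠ 2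
  hL : IsPGroup p L
  hmc : Cfsg.IsMetacyclic L
  hnt : Nontrivial L
  hnc : ∀ C : Subgroup L, IsCyclic C → C.index ≠ p

theorem omega_normal (hp2 : p ≠ 2) (hG : IsPGroup p L) (hc : IsCyclic (commutator L)) (k : ℕ) :
    (H65.omegaK hp2 hG hc k).Normal := by
  refine ⟨fun n hn g => ?_⟩
  rw [H65.mem_omegaK] at hn ⊢
  rw [conj_pow, hn]; group

theorem card_omega_one (hp2 : p ≠ 2) (hG : IsPGroup p L) (hmc : Cfsg.IsMetacyclic L)
    (hc : IsCyclic (commutator L)) (hn : ¬ IsCyclic L) :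
    Nat.card (H65.omegaK hp2 hG hc 1) = p ^ 2 := by
  classical
  have hp : p.Prime := hpf.out
  set V := H65.omegaK hp2 hG hc 1 with hV
  set U := closure {x : L | ∃ y : L, y ^ p = x} with hU
  have h1 : p < U.index := by
    by_contra h
    exact hn (H65.isCyclic_of_index_le hG (not_lt.1 h))
  let g : L → L := fun z => if h : ∃ y : L, y ^ p = z then h.choose else 1
  have hg : ∀ x : L, (g (x ^ p)) ^ p = x ^ p := by
    intro x
    have h : ∃ y : L, y ^ p = x ^ p := ⟨x, rfl⟩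
    have : g (x ^ p) = h.choose := dif_pos h
    rw [this]
    exact h.choose_spec
  have h2 : Nat.card L ≤ Nat.card (U × V) := by
    refine Nat.card_le_card_of_injective
      (fun x : L => ((⟨x ^ p, subset_closure ⟨x, rfl⟩⟩, ⟨(g (x ^ p))⁻¹ * x, ?_⟩) : U × V)) ?_
    · rw [hV, H65.mem_omegaK, ← H65.pow_eq_pow_iff_of_cyclic hp2 hG hc 1, pow_one]
      exact hg x
    · intro x y hxy
      have e1 : x ^ p = y ^ p := congrArg (fun z : U × V => (z.1 : L)) hxy
      have e2 : (g (x ^ p))⁻¹ * x = (g (y ^ p))⁻¹ * y := congrArg (fun z : U × V => (z.2 : L)) hxy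
      rw [e1] at e2
      exact mul_left_cancel e2
  rw [Nat.card_prod, ← U.card_mul_index] at h2
  have h3 : U.index ≤ Nat.card V := Nat.le_of_mul_le_mul_left h2 Nat.card_pos
  obtain ⟨k, hk⟩ := (IsPGroup.iff_card).1 (hG.to_subgroup V)
  have h4 : Nat.card V ≤ p ^ (2 * 1) := H65.card_omegaK_le hp2 hG hc hmc 1
  rw [hk] at h4 h3 ⊢
  have h5 : k ≤ 2 * 1 := (Nat.pow_le_pow_iff_right hp.one_lt).1 h4
  have h6 : 1 < k := by
    by_contra h
    have : p ^ k ≤ p ^ 1 := Nat.pow_le_pow_right hp.pos (not_lt.1 h)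
    rw [pow_one] at this
    omega
  have : k = 2 := by omega
  rw [this]

namespace Ctx

variable (c : Ctx L p)
include c

theorem hc : IsCyclic (commutator L) := H65.isCyclic_commutator_of_metacyclic c.hmc

theorem not_cyclic : ¬ IsCyclic L := by
  intro h
  have := c.hnt
  have hp : p.Prime := hpf.out
  obtain ⟨m, hm⟩ := (IsPGroup.iff_card).1 c.hL
  have hm0 : m ≠ 0 := by
    rintro rfl
    rw [pow_zero] at hm
    have h1 := Finite.one_lt_card (α := L)
    omega
  obtain ⟨K, hK⟩ := Sylow.exists_subgroup_card_pow_prime (G := L) p (n := m - 1)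
    (by rw [hm]; exact pow_dvd_pow p (by omega))
  have h2 : IsCyclic K := inferInstance
  refine c.hnc K h2 ?_
  have h3 := K.card_mul_index
  rw [hK, hm] at h3
  have h4 : p ^ m = p ^ (m - 1) * p := by rw [← pow_succ]; congr 1; omega
  rw [h4] at h3
  exact Nat.eq_of_mul_eq_mul_left (pow_pos hp.pos _) h3

/-- `Ω₁` -/
def V : Subgroup L := H65.omegaK c.hp c.hL c.hc 1

/-- `Ω₂` -/
def H : Subgroup L := H65.omegaK c.hp c.hL c.hc 2

theorem mem_V {x : L} : x ∈ c.V ↔ x ^ p = 1 := by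
  rw [V, H65.mem_omegaK, pow_one]

theorem mem_H {x : L} : x ∈ c.H ↔ x ^ p ^ 2 = 1 := Iff.rfl

theorem mem_H' {x : L} : x ∈ c.H ↔ x ^ p ∈ c.V := by
  rw [mem_H, mem_V, ← pow_mul, sq]

theorem V_le_H : c.V ≤ c.H := by
  intro x hx
  rw [mem_H']
  exact pow_mem hx p

instance V_normal : c.V.Normal := omega_normal _ _ _ _

instance H_normal : c.H.Normal := omega_normal _ _ _ _

theorem card_V : Nat.card c.V = p ^ 2 := card_omega_one c.hp c.hL c.hmc c.hc c.not_cyclic

/-- regularity -/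
theorem reg {x y : L} : x ^ p = y ^ p ↔ x⁻¹ * y ∈ c.V := by
  rw [mem_V]
  have := H65.pow_eq_pow_iff_of_cyclic c.hp c.hL c.hc 1 x y
  rwa [pow_one] at this

theorem quot_not_cyclic : ¬ IsCyclic (L ⧸ (c.V : Subgroup L)) := by
  have hp : p.Prime := hpf.out
  intro h
  obtain ⟨g, hg⟩ := h.exists_ofOrder_eq_natCard
  obtain ⟨y, rfl⟩ := QuotientGroup.mk_surjective g
  have h1 : Nat.card L = p ^ 2 * orderOf (y : L ⧸ c.V) := by
    rw [hg, ← c.card_V]
    exact (c.V.card_mul_index).symm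
  by_cases hy : y = 1
  · subst hy
    have h2 : orderOf ((1 : L) : L ⧸ c.V) = 1 := by
      rw [orderOf_eq_one_iff]; rfl
    rw [h2, mul_one] at h1
    obtain ⟨K, hK⟩ := Sylow.exists_subgroup_card_pow_prime (G := L) p (n := 1)
      (by rw [h1]; exact pow_dvd_pow p (by omega))
    rw [pow_one] at hK
    have h3 : IsCyclic K := isCyclic_of_prime_card hK
    refine c.hnc K h3 ?_
    have h4 := K.card_mul_index
    rw [hK, h1, sq] at h4
    exact Nat.eq_of_mul_eq_mul_left hp.pos h4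
  · have h2 : orderOf y = p * orderOf (y : L ⧸ c.V) := by
      apply Nat.dvd_antisymm
      · apply orderOf_dvd_of_pow_eq_one
        have h3 : (y : L ⧸ c.V) ^ orderOf (y : L ⧸ c.V) = 1 := pow_orderOf_eq_one _
        rw [← QuotientGroup.mk_pow, QuotientGroup.eq_one_iff, mem_V, ← pow_mul, mul_comm] at h3
        exact h3
      · obtain ⟨k, hk⟩ := (IsPGroup.iff_orderOf.1 c.hL) y
        have hk0 : k ≠ 0 := by
          rintro rfl
          rw [pow_zero, orderOf_eq_one_iff] at hk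
          exact hy hk
        have h4 : orderOf (y : L ⧸ c.V) ∣ p ^ (k - 1) := by
          apply orderOf_dvd_of_pow_eq_one
          rw [← QuotientGroup.mk_pow, QuotientGroup.eq_one_iff, mem_V, ← pow_mul, ← pow_succ,
            Nat.sub_add_cancel (Nat.pos_of_ne_zero hk0), ← hk]
          exact pow_orderOf_eq_one y
        rw [hk]
        calc p * orderOf (y : L ⧸ c.V) ∣ p * p ^ (k - 1) := Nat.mul_dvd_mul_left p h4
          _ = p ^ k := by rw [← pow_succ']; congr 1; omega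
    refine c.hnc (zpowers y) inferInstance ?_
    have h4 := (zpowers y).card_mul_index
    rw [Nat.card_zpowers, h2, h1] at h4
    have h5 : 0 < p * orderOf (y : L ⧸ c.V) := Nat.mul_pos hp.pos (orderOf_pos _)
    apply Nat.eq_of_mul_eq_mul_left h5
    rw [h4]; ring

theorem isP_quot : IsPGroup p (L ⧸ (c.V : Subgroup L)) := by
  exact c.hL.to_quotient _

theorem meta_quot : Cfsg.IsMetacyclic (L ⧸ (c.V : Subgroup L)) := by
  exact H72.isMetacyclic_of_surjective (QuotientGroup.mk' c.V) (QuotientGroup.mk'_surjective _) c.hmc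

theorem hcq : IsCyclic (commutator (L ⧸ (c.V : Subgroup L))) :=
  H65.isCyclic_commutator_of_metacyclic c.meta_quot

theorem mk_mem_iff {x : L} : (x : L ⧸ c.V) ∈ H65.omegaK c.hp c.isP_quot c.hcq 1 ↔ x ∈ c.H := by
  rw [H65.mem_omegaK, pow_one, ← QuotientGroup.mk_pow, QuotientGroup.eq_one_iff, mem_H']

theorem card_quot : Nat.card (H65.omegaK c.hp c.isP_quot c.hcq 1) = p ^ 2 :=
  card_omega_one c.hp c.isP_quot c.meta_quot c.hcq c.quot_not_cyclic

/-- `Ω₂' ≤ Ω₁` -/
theorem comm_mem_V {x y : L} (hx : x ∈ c.H) (hy : y ∈ c.H) : ⁅x, y⁆ ∈ c.V := by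
  have h1 : IsMulCommutative (H65.omegaK c.hp c.isP_quot c.hcq 1) :=
    IsPGroup.isMulCommutative_of_card_eq_prime_sq c.card_quot
  have h2 := h1.is_comm.comm (⟨(x : L ⧸ c.V), c.mk_mem_iff.2 hx⟩ : H65.omegaK c.hp c.isP_quot c.hcq 1)
    ⟨(y : L ⧸ c.V), c.mk_mem_iff.2 hy⟩
  have h3 : (x : L ⧸ c.V) * y = y * x := congrArg Subtype.val h2
  rw [← QuotientGroup.eq_one_iff]
  have h4 : ((⁅x, y⁆ : L) : L ⧸ c.V) = ⁅(x : L ⧸ c.V), (y : L ⧸ c.V)⁆ := map_commutatorElement (QuotientGroup.mk' c.V) x y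
  rw [h4, commutatorElement_eq_one_iff_mul_comm, h3]

/-- the power map is a homomorphism on `Ω₂` -/
theorem mul_pow {x y : L} (hx : x ∈ c.H) (hy : y ∈ c.H) : (x * y) ^ p = x ^ p * y ^ p := by
  obtain ⟨d, hd, h⟩ := H65.mul_pow_p_of_cyclic c.hp c.hL c.hc x y
  have h1 : d ∈ c.V := (zpowers_le.2 (c.comm_mem_V hx hy)) hd
  rw [h, c.mem_V.1 h1, mul_one]

theorem exists_root {v : L} (hv : v ∈ c.V) : ∃ z ∈ c.H, z ^ p = v := by
  classical
  have e : ∀ q : L ⧸ c.V, ((q.out : L) : L ⧸ c.V) = q := fun q => QuotientGroup.out_eq' q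
  have h0 : ∀ q : H65.omegaK c.hp c.isP_quot c.hcq 1, (q : L ⧸ c.V).out ∈ c.H := by
    intro q
    rw [← c.mk_mem_iff, e]
    exact q.2
  let f : H65.omegaK c.hp c.isP_quot c.hcq 1 → c.V := fun q =>
    ⟨((q : L ⧸ c.V).out) ^ p, c.mem_H'.1 (h0 q)⟩
  have hf : Function.Injective f := by
    intro q q' h
    have h1 : ((q : L ⧸ c.V).out) ^ p = ((q' : L ⧸ c.V).out) ^ p := congrArg Subtype.val h
    rw [c.reg, ← QuotientGroup.eq, e, e] at h1
    exact Subtype.ext h1
  have hb : Function.Bijective f :=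
    (Nat.bijective_iff_injective_and_card f).2 ⟨hf, by rw [c.card_quot, c.card_V]⟩
  obtain ⟨q, hq⟩ := hb.2 ⟨v, hv⟩
  exact ⟨_, h0 q, congrArg Subtype.val hq⟩

/-- `Ω₂` centralises `Ω₁` -/
theorem comm_V_H {v x : L} (hv : v ∈ c.V) (hx : x ∈ c.H) : v * x = x * v := by
  obtain ⟨z, hz, rfl⟩ := c.exists_root hv
  have h1 := (H65.commutator_pow_eq_one_iff c.hp c.hL c.hc z x 1).2 (by
    rw [pow_one]; exact c.mem_V.1 (c.comm_mem_V hz hx))
  rwa [pow_one, commutatorElement_eq_one_iff_mul_comm] at h1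

theorem comm_V_V {v x : L} (hv : v ∈ c.V) (hx : x ∈ c.V) : v * x = x * v := c.comm_V_H hv (c.V_le_H hx)

end Ctx

end Cfsg.Agent.H11.MA
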