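import Cfsg.Agent.H11.MA1
import Cfsg.Agent.MaxClass.SelfCent
import Cfsg.Agent.MaxClass.Basic

/-!
# Automorphisms of order `p` of metacyclic `p`-groups (helper11, S4079)
-/

set_option autoImplicit false

namespace Cfsg.Agent.H11.MA

open Subgroup
open scoped commutatorElement

variable {L : Type*} [Group L] [Finite L] {p : ℕ} [hpf : Fact p.Prime]

theorem fix_count {a : MulAut L} (ha : a ^ p = 1) (W : Subgroup L) (hW : ∀ x ∈ W, a x ∈ W) :
    Nat.card W ≡ Nat.card {x : W // a x = x} [MOD p] := by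
  classical
  have := Fintype.ofFinite W
  let f : Function.End W := fun x => ⟨a x, hW x x.2⟩
  have hit : ∀ (k : ℕ) (x : W), (((f ^ k) x : W) : L) = (a ^ k) x := by
    intro k
    induction k with
    | zero => intro x; rfl
    | succ k ih =>
      intro x
      rw [pow_succ', pow_succ']
      change a (((f ^ k) x : W) : L) = a ((a ^ k) x)
      rw [ih]
  have hf : f ^ p ^ 1 = 1 := by
    funext x
    apply Subtype.ext
    rw [hit, pow_one, ha]
    rfl
  have h1 := Equiv.Perm.card_fixedPoints_modEq hf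
  rw [Nat.card_eq_fintype_card]
  have h2 : Nat.card {x : W // a x = x} = Fintype.card (Function.fixedPoints f) := by
    rw [← Nat.card_eq_fintype_card]
    apply Nat.card_congr
    exact {
      toFun := fun x => ⟨x.1, Subtype.ext x.2⟩
      invFun := fun x => ⟨x.1, congrArg Subtype.val x.2⟩
      left_inv := fun x => rfl
      right_inv := fun x => rfl }
  rw [h2]
  convert h1

theorem fix_all {a : MulAut L} (ha : a ^ p = 1) (W : Subgroup L) (hW : ∀ x ∈ W, a x ∈ W)
    (hc : Nat.card W = p) : ∀ x ∈ W, a x = x := by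
  have h1 := fix_count ha W hW
  have h2 : p ∣ Nat.card {x : W // a x = x} := by
    rw [hc] at h1
    exact (Nat.modEq_zero_iff_dvd).1 (h1.symm.trans (by rw [Nat.ModEq]; simp))
  have h3 : Nonempty {x : W // a x = x} := ⟨⟨1, by simp⟩⟩
  have h4 : p ≤ Nat.card {x : W // a x = x} := Nat.le_of_dvd Nat.card_pos h2
  have h5 : Function.Injective (fun x : {x : W // a x = x} => x.1) := Subtype.val_injective
  have h6 : Nat.card {x : W // a x = x} ≤ Nat.card W := Nat.card_le_card_of_injective _ h5
  have h7 := (Nat.bijective_iff_injective_and_card (fun x : {x : W // a x = x} => x.1)).2 ⟨h5, by omega⟩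
  intro x hx
  obtain ⟨y, hy⟩ := h7.2 ⟨x, hx⟩
  have h8 := y.2
  have h9 : ((y.1 : W) : L) = x := congrArg Subtype.val hy
  rwa [h9] at h8

theorem exists_fix {a : MulAut L} (ha : a ^ p = 1) (W : Subgroup L) (hW : ∀ x ∈ W, a x ∈ W)
    (hc : p ∣ Nat.card W) : ∃ x ∈ W, x ≠ 1 ∧ a x = x := by
  have h1 := fix_count ha W hW
  have h2 : p ∣ Nat.card {x : W // a x = x} :=
    (Nat.modEq_zero_iff_dvd).1 (h1.symm.trans ((Nat.modEq_zero_iff_dvd).2 hc))
  have h3 : Nonempty {x : W // a x = x} := ⟨⟨1, by simp⟩⟩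
  have h4 : p ≤ Nat.card {x : W // a x = x} := Nat.le_of_dvd Nat.card_pos h2
  have h5 : 1 < Nat.card {x : W // a x = x} := lt_of_lt_of_le hpf.out.one_lt h4
  have h6 : Nontrivial {x : W // a x = x} := Finite.one_lt_card_iff_nontrivial.1 h5
  obtain ⟨y, hy⟩ := exists_ne (⟨1, by simp⟩ : {x : W // a x = x})
  refine ⟨y.1, y.1.2, ?_, y.2⟩
  intro h
  exact hy (Subtype.ext (Subtype.ext h))

namespace Ctx

variable (c : Ctx L p)
include c

theorem inv_V (a : MulAut L) {x : L} (hx : x ∈ c.V) : a x ∈ c.V := by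
  rw [mem_V] at hx ⊢
  rw [← map_pow, hx, map_one]

theorem inv_H (a : MulAut L) {x : L} (hx : x ∈ c.H) : a x ∈ c.H := by
  rw [mem_H] at hx ⊢
  rw [← map_pow, hx, map_one]

/-- `x ↦ x⁻¹ a(x)` on `Ω₁` -/
def phi (a : MulAut L) : c.V →* L where
  toFun x := (x : L)⁻¹ * a x
  map_one' := by simp
  map_mul' x y := by
    have h1 : (x : L)⁻¹ * a x ∈ c.V := mul_mem (inv_mem x.2) (c.inv_V a x.2)
    have h2 := c.comm_V_V h1 (inv_mem y.2)
    rw [Subgroup.coe_mul, map_mul]
    calc ((x : L) * y)⁻¹ * (a x * a y) = (y : L)⁻¹ * ((x : L)⁻¹ * a x) * a y := by group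
      _ = (x : L)⁻¹ * a x * ((y : L)⁻¹ * a y) := by rw [← h2]; group

theorem key (a : MulAut L) (ha : a ^ p = 1) (hmove : ∃ x ∈ c.V, a x ≠ x) :
    (∀ x ∈ c.V, a (x⁻¹ * a x) = x⁻¹ * a x) ∧ Nat.card {x : L // x ∈ c.V ∧ a x = x} = p := by
  have hp : p.Prime := hpf.out
  have h1 := (c.phi a).ker.card_mul_index
  rw [index_ker, c.card_V] at h1
  obtain ⟨i, hi, hki⟩ := (Nat.dvd_prime_pow hp).1 (Dvd.intro _ h1)
  have hi0 : i ≠ 0 := by
    rintro rfl
    obtain ⟨x, hx, hx1, hax⟩ := exists_fix ha c.V (fun x hx => c.inv_V a hx)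
      (by rw [c.card_V, sq]; exact Dvd.intro _ rfl)
    rw [pow_zero] at hki
    have h2 : (c.phi a).ker = ⊥ := Subgroup.eq_bot_of_card_eq _ hki
    have h3 : (⟨x, hx⟩ : c.V) ∈ (c.phi a).ker := by
      rw [MonoidHom.mem_ker]
      change x⁻¹ * a x = 1
      rw [hax, inv_mul_cancel]
    rw [h2, mem_bot] at h3
    exact hx1 (congrArg Subtype.val h3)
  have hi2 : i ≠ 2 := by
    rintro rfl
    obtain ⟨x, hx, hax⟩ := hmove
    have h2 : (c.phi a).ker = ⊤ := by
      apply Subgroup.eq_top_of_card_eq
      rw [hki, c.card_V]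
    have h3 : (⟨x, hx⟩ : c.V) ∈ (c.phi a).ker := by rw [h2]; exact mem_top _
    rw [MonoidHom.mem_ker] at h3
    change x⁻¹ * a x = 1 at h3
    exact hax (inv_mul_eq_one.1 h3).symm
  have hi1 : i = 1 := by omega
  subst hi1
  rw [pow_one] at hki
  rw [hki, sq] at h1
  have hr : Nat.card (c.phi a).range = p := Nat.eq_of_mul_eq_mul_left hp.pos h1
  constructor
  · intro x hx
    refine fix_all ha (c.phi a).range ?_ hr _ ⟨⟨x, hx⟩, rfl⟩
    rintro _ ⟨y, rfl⟩
    refine ⟨⟨a y, c.inv_V a y.2⟩, ?_⟩
    change (a y)⁻¹ * a (a y) = a ((y : L)⁻¹ * a y)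
    rw [map_mul, map_inv]
  · refine (Nat.card_congr ?_).trans hki
    exact {
      toFun := fun x => ⟨⟨x.1, x.2.1⟩, by
        rw [MonoidHom.mem_ker]
        change x.1⁻¹ * a x.1 = 1
        rw [x.2.2, inv_mul_cancel]⟩
      invFun := fun x => ⟨x.1.1, x.1.2, by
        have h := x.2
        rw [MonoidHom.mem_ker] at h
        change (x.1.1 : L)⁻¹ * a x.1.1 = 1 at h
        exact (inv_mul_eq_one.1 h).symm⟩
      left_inv := fun x => rfl
      right_inv := fun x => rfl }

theorem main_calc (a : MulAut L) (ha : a ^ p = 1) (hmove : ∃ x ∈ c.V, a x ≠ x) :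
    p = 3 ∧ Nat.card {x : L // a x = x} = p := by
  have hp : p.Prime := hpf.out
  obtain ⟨hkey, hcard⟩ := c.key a ha hmove
  obtain ⟨s, hs, has⟩ := hmove
  set r := s⁻¹ * a s with hr
  have hrV : r ∈ c.V := mul_mem (inv_mem hs) (c.inv_V a hs)
  have hr1 : r ≠ 1 := fun h => has (inv_mul_eq_one.1 h).symm
  have har : a r = r := hkey s hs
  obtain ⟨w, hw, hws⟩ := c.exists_root hs
  set v := w⁻¹ * a w with hv
  have haw : a w = w * v := by rw [hv]; group
  have hvH : v ∈ c.H := mul_mem (inv_mem hw) (c.inv_H a hw)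
  have hvp : v ^ p = r := by
    rw [hv, c.mul_pow (inv_mem hw) (c.inv_H a hw), inv_pow, ← map_pow, hws]
  set u := v⁻¹ * a v with hu
  have hav : a v = v * u := by rw [hu]; group
  have huV : u ∈ c.V := by
    rw [hu, ← c.reg, ← map_pow, hvp, har]
  set t := u⁻¹ * a u with ht
  have hau : a u = u * t := by rw [ht]; group
  have htV : t ∈ c.V := mul_mem (inv_mem huV) (c.inv_V a huV)
  have hat : a t = t := hkey u huV
  have cuv : Commute v u := (c.comm_V_H huV hvH).symm
  have cut : Commute u t := c.comm_V_V huV htV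
  have horb : ∀ k : ℕ, (a ^ k) w = w * v ^ k * u ^ (k.choose 2) * t ^ (k.choose 3) := by
    intro k
    induction k with
    | zero => simp
    | succ k ih =>
      have e1 : (a ^ (k + 1)) w = a ((a ^ k) w) := by rw [pow_succ']; rfl
      rw [e1, ih, map_mul, map_mul, map_mul, map_pow, map_pow, map_pow, haw, hav, hau, hat, cuv.mul_pow,
        cut.mul_pow]
      have e2 : (k + 1).choose 2 = k + k.choose 2 := by
        rw [Nat.choose_succ_succ' k 1, Nat.choose_one_right]
      have e3 : (k + 1).choose 3 = k.choose 2 + k.choose 3 := Nat.choose_succ_succ' k 2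
      rw [e2, e3, pow_succ' v, pow_add, pow_add]
      simp only [mul_assoc]
  have hu1 : u ^ p = 1 := c.mem_V.1 huV
  have ht1 : t ^ p = 1 := c.mem_V.1 htV
  have hend := horb p
  rw [ha] at hend
  have e4 : u ^ (p.choose 2) = 1 := by
    obtain ⟨j, hj⟩ := hp.dvd_choose_self (k := 2) (by norm_num) (lt_of_le_of_ne hp.two_le c.hp.symm)
    rw [hj, pow_mul, hu1, one_pow]
  have h3 : r * t ^ (p.choose 3) = 1 := by
    rw [e4, hvp, mul_one, mul_assoc] at hend
    change w = w * (r * t ^ (p.choose 3)) at hend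
    exact (mul_eq_left.1 hend.symm)
  have hp3 : p = 3 := by
    by_contra hne
    have h4 : 3 < p := by
      have := hp.two_le
      have := c.hp
      omega
    obtain ⟨j, hj⟩ := hp.dvd_choose_self (k := 3) (by norm_num) h4
    rw [hj, pow_mul, ht1, one_pow, mul_one] at h3
    exact hr1 h3
  refine ⟨hp3, ?_⟩
  have hrt : r * t = 1 := by
    have : p.choose 3 = 1 := by rw [hp3]; rfl
    rw [this, pow_one] at h3
    exact h3
  -- the fixed points in `Ω₁` are the powers of `r`
  have hfixV : ∀ x ∈ c.V, a x = x → ∃ i : ℕ, r ^ i = x := by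
    intro x hx hax
    have hord : orderOf r = p := orderOf_eq_prime (c.mem_V.1 hrV) hr1
    let g : zpowers r → {x : L // x ∈ c.V ∧ a x = x} := fun y => ⟨y, (zpowers_le.2 hrV) y.2, by
      obtain ⟨k, hk⟩ := mem_zpowers_iff.1 y.2
      rw [← hk, map_zpow, har]⟩
    have hg : Function.Injective g := by
      intro y z h
      exact Subtype.ext (congrArg (fun q : {x : L // x ∈ c.V ∧ a x = x} => q.1) h)
    have hb := (Nat.bijective_iff_injective_and_card g).2 ⟨hg, by rw [hcard, Nat.card_zpowers, hord]⟩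
    obtain ⟨y, hy⟩ := hb.2 ⟨x, hx, hax⟩
    have h5 : (y : L) = x := congrArg (fun q : {x : L // x ∈ c.V ∧ a x = x} => q.1) hy
    have h6 := y.2
    rw [h5] at h6
    obtain ⟨i, hi⟩ := (mem_powers_iff_mem_zpowers).2 h6
    exact ⟨i, hi⟩
  have hfixH : ∀ x ∈ c.H, a x = x → x ∈ c.V := by
    intro x hx hax
    obtain ⟨i, hi⟩ := hfixV (x ^ p) (c.mem_H'.1 hx) (by rw [map_pow, hax])
    have h5 : (v ^ i) ^ p = x ^ p := by rw [← pow_mul, mul_comm, pow_mul, hvp, hi]
    rw [c.reg] at h5
    set y := (v ^ i)⁻¹ * x with hy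
    have hxy : x = v ^ i * y := by rw [hy]; group
    have h6 : u ^ i * a y = y := by
      have := hax
      rw [hxy, map_mul, map_pow, hav, cuv.mul_pow, mul_assoc] at this
      exact mul_left_cancel this
    have h7 : a (u ^ i) = u ^ i := by
      have h8 : u ^ i = (y⁻¹)⁻¹ * a y⁻¹ := by
        rw [inv_inv, map_inv, eq_mul_inv_iff_mul_eq, h6]
      rw [h8]
      exact hkey y⁻¹ (inv_mem h5)
    rw [map_pow, hau, cut.mul_pow, mul_eq_left] at h7
    have h9 : t = r⁻¹ := (inv_eq_of_mul_eq_one_right hrt).symm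
    rw [h9, inv_pow, inv_eq_one, hi] at h7
    exact c.mem_V.2 h7
  have hfix : ∀ x : L, a x = x → x ∈ c.V := by
    intro x hax
    obtain ⟨k, hk⟩ := (IsPGroup.iff_orderOf.1 c.hL) x
    by_cases hk2 : k ≤ 1
    · rw [c.mem_V]
      apply orderOf_dvd_iff_pow_eq_one.1
      rw [hk]
      calc p ^ k ∣ p ^ 1 := pow_dvd_pow p hk2
        _ = p := pow_one p
    · exfalso
      have h5 : x ^ p ^ (k - 2) ∈ c.H := by
        rw [c.mem_H, ← pow_mul, ← pow_add, Nat.sub_add_cancel (by omega), ← hk]
        exact pow_orderOf_eq_one x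
      have h6 := hfixH _ h5 (by rw [map_pow, hax])
      rw [c.mem_V, ← pow_mul, ← pow_succ] at h6
      have h7 := orderOf_dvd_of_pow_eq_one h6
      rw [hk] at h7
      have h8 := (Nat.pow_dvd_pow_iff_le_right hp.one_lt).1 h7
      omega
  refine (Nat.card_congr ?_).trans hcard
  exact {
    toFun := fun x => ⟨x.1, hfix _ x.2, x.2⟩
    invFun := fun x => ⟨x.1, x.2.2⟩
    left_inv := fun x => rfl
    right_inv := fun x => rfl }

end Ctx

/-- If `a` has exactly `p` fixed points then `L ⋊ ⟨a⟩` has maximal class. -/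
theorem class_of_fix (a : MulAut L) (ha : orderOf a = p) (hfix : Nat.card {x : L // a x = x} = p)
    (m : ℕ) (hm : Nat.card L = p ^ m) :
    Group.nilpotencyClass (SemidirectProduct L ↥(Subgroup.zpowers a) (Subgroup.zpowers a).subtype) = m := by
  have hp : p.Prime := hpf.out
  have hfin : Finite (SemidirectProduct L ↥(Subgroup.zpowers a) (Subgroup.zpowers a).subtype) := by
    have : Finite (zpowers a) := inferInstance
    exact Finite.of_equiv _ (SemidirectProduct.equivProd (φ := (Subgroup.zpowers a).subtype)).symm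
  set α : zpowers a := ⟨a, mem_zpowers a⟩ with hα
  set A : Subgroup (SemidirectProduct L ↥(Subgroup.zpowers a) (Subgroup.zpowers a).subtype) :=
    centralizer {SemidirectProduct.inr α} with hA
  have hmem : ∀ g, g ∈ A ↔ a g.left = g.left := by
    intro g
    rw [hA, mem_centralizer_singleton_iff]
    constructor
    · intro h
      have h1 := congrArg SemidirectProduct.left h
      simp only [SemidirectProduct.mul_left, SemidirectProduct.left_inr, SemidirectProduct.right_inr, one_mul,
        map_one, mul_one] at h1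
      first
        | exact h1
        | exact h1.symm
    · intro h
      apply SemidirectProduct.ext
      · simp only [SemidirectProduct.mul_left, SemidirectProduct.left_inr, SemidirectProduct.right_inr, one_mul,
          map_one, mul_one]
        first
          | exact h
          | exact h.symm
      · simp only [SemidirectProduct.mul_right, SemidirectProduct.right_inr]
        obtain ⟨k, hk⟩ := mem_zpowers_iff.1 g.right.2
        first
          | (have h2 : Commute a ((g.right : zpowers a) : MulAut L) := by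
              rw [← hk]; exact (Commute.refl a).zpow_right k
             apply Subtype.ext
             first
               | exact h2
               | exact h2.symm)
  have hcard : Nat.card A = p ^ 2 := by
    have e : A ≃ {x : L // a x = x} × zpowers a := {
      toFun := fun g => (⟨g.1.left, (hmem g.1).1 g.2⟩, g.1.right)
      invFun := fun q => ⟨⟨q.1.1, q.2⟩, (hmem _).2 q.1.2⟩
      left_inv := fun g => rfl
      right_inv := fun q => rfl }
    rw [Nat.card_congr e, Nat.card_prod, hfix, Nat.card_zpowers, ha, sq]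
  have hG : Nat.card (SemidirectProduct L ↥(Subgroup.zpowers a) (Subgroup.zpowers a).subtype) = p ^ (m + 1) := by
    rw [SemidirectProduct.card, hm, Nat.card_zpowers, ha, pow_succ]
  have hm1 : 1 ≤ m := by
    by_contra h
    have : m = 0 := by omega
    subst this
    rw [pow_zero] at hm
    have h1 : Nat.card {x : L // a x = x} ≤ Nat.card L :=
      Nat.card_le_card_of_injective _ Subtype.val_injective
    rw [hfix, hm] at h1
    have := hp.one_lt
    omega
  have hcen : centralizer (A : Set _) = A := by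
    apply le_antisymm
    · rw [hA]
      apply centralizer_le
      rw [Set.singleton_subset_iff]
      exact (hmem _).2 (by simp)
    · have h1 : IsMulCommutative A := IsPGroup.isMulCommutative_of_card_eq_prime_sq hcard
      intro x hx
      rw [mem_centralizer_iff]
      intro y hy
      exact congrArg Subtype.val (h1.is_comm.comm (⟨y, hy⟩ : A) ⟨x, hx⟩)
  have := MaxClass.class_of_self_centralizing (p := p) (m + 1) (by omega) _ hG A hcard hcen
  rw [this]
  rfl

end Cfsg.Agent.H11.MA
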