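import Cfsg.Agent.H11.MA2

/-!
# Maximal class semidirect products with metacyclic 3-groups (helper11, S4079)
-/

set_option autoImplicit false

namespace Cfsg.Agent.H11.MA

open Subgroup
open scoped commutatorElement

variable {L : Type*} [Group L] [Finite L] {p : ℕ} [hpf : Fact p.Prime]

theorem no_section {G : Type*} [Group G] [Finite G] {n : ℕ} (hG : Nat.card G = p ^ n)
    (hcl : Group.nilpotencyClass G = n - 1) (N M : Subgroup G) [N.Normal] (k j : ℕ) (hk : Nat.card N = p ^ k)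
    (hj : Nat.card M = p ^ j) (hjk : j + 2 ≤ k) (hkn : k + 2 ≤ n) (hNM : ⁅N, (⊤ : Subgroup G)⁆ ≤ M) : False := by
  have hp : p.Prime := hpf.out
  have hNi : N.index = p ^ (n - k) := by
    have h := N.card_mul_index
    rw [hk, hG] at h
    have h2 : p ^ n = p ^ k * p ^ (n - k) := by rw [← pow_add]; congr 1; omega
    rw [h2] at h
    exact Nat.eq_of_mul_eq_mul_left (pow_pos hp.pos _) h
  have hMi : M.index = p ^ (n - j) := by
    have h := M.card_mul_index
    rw [hj, hG] at h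
    have h2 : p ^ n = p ^ j * p ^ (n - j) := by rw [← pow_add]; congr 1; omega
    rw [h2] at h
    exact Nat.eq_of_mul_eq_mul_left (pow_pos hp.pos _) h
  have h1 := MaxClass.normal_eq_lcs_of_maxClass hG hcl N (n - k) (by omega) hNi
  have h2 : (⊤ : Subgroup G).lowerCentralSeries (n - k) ≤ M := by
    have e : n - k = (n - k - 1) + 1 := by omega
    rw [e]
    change ⁅(⊤ : Subgroup G).lowerCentralSeries (n - k - 1), (⊤ : Subgroup G)⁆ ≤ M
    rw [← h1]
    exact hNM
  have h3 := MaxClass.index_lcs_of_maxClass hG hcl (n - k) (by omega) (by omega)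
  have h4 := index_dvd_of_le h2
  rw [h3, hMi] at h4
  have h5 := (Nat.pow_dvd_pow_iff_le_right hp.one_lt).1 h4
  omega

theorem no_section_L (a : MulAut L) (ha : orderOf a = p) (m : ℕ) (hm : Nat.card L = p ^ m)
    (hcl : Group.nilpotencyClass (SemidirectProduct L ↥(Subgroup.zpowers a) (Subgroup.zpowers a).subtype) = m)
    (W M : Subgroup L) [hWn : W.Normal] [hMn : M.Normal] (hWa : ∀ x ∈ W, a x ∈ W)
    (h1 : ∀ x ∈ W, ∀ l : L, x⁻¹ * (l * x * l⁻¹) ∈ M) (h2 : ∀ x ∈ W, x⁻¹ * a x ∈ M) (k j : ℕ)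
    (hk : Nat.card W = p ^ k) (hj : Nat.card M = p ^ j) (hjk : j + 2 ≤ k) (hkm : k < m) : False := by
  have hp : p.Prime := hpf.out
  have hfin : Finite (SemidirectProduct L ↥(Subgroup.zpowers a) (Subgroup.zpowers a).subtype) := by
    have : Finite (zpowers a) := inferInstance
    exact Finite.of_equiv _ (SemidirectProduct.equivProd (φ := (Subgroup.zpowers a).subtype)).symm
  have hG : Nat.card (SemidirectProduct L ↥(Subgroup.zpowers a) (Subgroup.zpowers a).subtype) = p ^ (m + 1) := by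
    rw [SemidirectProduct.card, hm, Nat.card_zpowers, ha, pow_succ]
  let i : L →* SemidirectProduct L ↥(Subgroup.zpowers a) (Subgroup.zpowers a).subtype := SemidirectProduct.inl
  have hi : Function.Injective i := SemidirectProduct.inl_injective
  have hb : ∀ b : zpowers a, ∃ n : ℕ, (b : MulAut L) = a ^ n := by
    intro b
    obtain ⟨n, hn⟩ := (mem_powers_iff_mem_zpowers).2 b.2
    exact ⟨n, hn.symm⟩
  have hWn : ∀ (n : ℕ), ∀ x ∈ W, (a ^ n) x ∈ W := by
    intro n
    induction n with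
    | zero => intro x hx; exact hx
    | succ n ih => intro x hx; rw [pow_succ']; exact hWa _ (ih x hx)
  have hMn' : ∀ (n : ℕ), ∀ x ∈ W, x⁻¹ * (a ^ n) x ∈ M := by
    intro n
    induction n with
    | zero =>
      intro x hx
      change x⁻¹ * x ∈ M
      rw [inv_mul_cancel]; exact one_mem _
    | succ n ih =>
      intro x hx
      have e : x⁻¹ * (a ^ (n + 1)) x = (x⁻¹ * (a ^ n) x) * (((a ^ n) x)⁻¹ * a ((a ^ n) x)) := by
        rw [pow_succ']
        change x⁻¹ * a ((a ^ n) x) = _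
        group
      rw [e]
      exact mul_mem (ih x hx) (h2 _ (hWn n x hx))
  have hconj : ∀ (g : SemidirectProduct L ↥(Subgroup.zpowers a) (Subgroup.zpowers a).subtype) (x : L),
      g * i x * g⁻¹ = i (g.left * (g.right : MulAut L) x * g.left⁻¹) := by
    intro g x
    have e1 : g = SemidirectProduct.inl g.left * SemidirectProduct.inr g.right :=
      (SemidirectProduct.inl_left_mul_inr_right g).symm
    have e2 := SemidirectProduct.inl_aut (φ := (Subgroup.zpowers a).subtype) g.right x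
    calc g * i x * g⁻¹ = (SemidirectProduct.inl g.left * SemidirectProduct.inr g.right) * i x *
          (SemidirectProduct.inl g.left * SemidirectProduct.inr g.right)⁻¹ := by rw [← e1]
      _ = SemidirectProduct.inl g.left * (SemidirectProduct.inr g.right * SemidirectProduct.inl x *
          SemidirectProduct.inr g.right⁻¹) * (SemidirectProduct.inl g.left)⁻¹ := by
          rw [mul_inv_rev, map_inv]
          simp only [mul_assoc]
          rfl
      _ = i (g.left * (g.right : MulAut L) x * g.left⁻¹) := by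
          rw [← e2, map_mul, map_mul, map_inv]
          rfl
  have hNn : (W.map i).Normal := by
    refine ⟨?_⟩
    rintro _ ⟨x, hx, rfl⟩ g
    rw [hconj]
    refine mem_map_of_mem _ ?_
    obtain ⟨n, hn⟩ := hb g.right
    rw [hn]
    exact Normal.conj_mem ‹W.Normal› _ (hWn n x hx) _
  refine no_section (p := p) (n := m + 1) hG (by rw [hcl]; rfl) (W.map i) (M.map i) k j
    (by rw [← hk]; exact (Nat.card_congr (W.equivMapOfInjective i hi).toEquiv).symm)
    (by rw [← hj]; exact (Nat.card_congr (M.equivMapOfInjective i hi).toEquiv).symm) hjk (by omega) ?_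
  rw [commutator_le]
  rintro _ ⟨x, hx, rfl⟩ g -
  have e1 : ⁅i x, g⁆ = i (x * (g.left * (g.right : MulAut L) x⁻¹ * g.left⁻¹)) := by
    rw [map_mul, ← hconj, commutatorElement_def, map_inv]
    group
  rw [e1]
  refine mem_map_of_mem _ ?_
  obtain ⟨n, hn⟩ := hb g.right
  rw [hn]
  have e2 : x * (g.left * (a ^ n) x⁻¹ * g.left⁻¹) =
      ((x⁻¹)⁻¹ * (g.left * x⁻¹ * g.left⁻¹)) * (g.left * ((x⁻¹)⁻¹ * (a ^ n) x⁻¹) * g.left⁻¹) := by
    rw [inv_inv]; group
  rw [e2]
  exact mul_mem (h1 _ (inv_mem hx) _) (Normal.conj_mem ‹M.Normal› _ (hMn' n _ (inv_mem hx)) _)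

namespace Ctx

variable (c : Ctx L p)
include c

theorem four_le (m : ℕ) (hm : Nat.card L = p ^ m) : 4 ≤ m := by
  have hp : p.Prime := hpf.out
  have h1 := c.V.card_mul_index
  have h2 : p ^ 2 ≤ c.V.index := by
    rw [← c.card_quot]
    exact Nat.card_le_card_of_injective _ Subtype.val_injective
  rw [c.card_V, hm] at h1
  have h3 : p ^ 4 ≤ p ^ m := by
    calc p ^ 4 = p ^ 2 * p ^ 2 := by ring
      _ ≤ p ^ 2 * c.V.index := Nat.mul_le_mul_left _ h2
      _ = p ^ m := h1
  exact (Nat.pow_le_pow_iff_right hp.one_lt).1 h3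

/-- the converse -/
theorem converse (h3 : p = 3) (a : MulAut L) (ha : orderOf a = p) (m : ℕ) (hm : Nat.card L = p ^ m)
    (hcl : Group.nilpotencyClass (SemidirectProduct L ↥(Subgroup.zpowers a) (Subgroup.zpowers a).subtype) = m)
    (hfix : ∀ x ∈ c.V, a x = x) : False := by
  have hp : p.Prime := hpf.out
  have ha1 : a ^ p = 1 := by rw [← ha]; exact pow_orderOf_eq_one a
  have hm4 := c.four_le m hm
  -- `L` does not centralise `V`
  obtain ⟨x, hx⟩ : ∃ x : L, ∃ v ∈ c.V, x * v ≠ v * x := by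
    by_contra hcon
    push Not at hcon
    refine no_section_L a ha m hm hcl c.V ⊥ (fun x hx => c.inv_V a hx) ?_ ?_ 2 0 c.card_V (by simp) (by norm_num) (by omega)
    · intro x hx l
      rw [mem_bot, hcon l x hx]; group
    · intro x hx
      rw [mem_bot, hfix x hx, inv_mul_cancel]
  obtain ⟨v₀, hv₀, hxv⟩ := hx
  obtain ⟨N, hNn, hN, hQ⟩ := c.hmc
  have hcomm : commutator L ≤ N := H65.commutator_le_of_metacyclic hQ
  set Z : Subgroup L := c.V ⊓ N with hZ
  have hZn : Z.Normal := inferInstance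
  have hZc : ∀ z ∈ Z, ∀ l : L, l * z = z * l := by
    intro z hz l
    have h := H65.commutator_mem_zpowers_pow c.hL hN hz.2 l
    rw [c.mem_V.1 hz.1, zpowers_one_eq_bot, mem_bot] at h
    rw [mul_inv_eq_one, mul_inv_eq_iff_eq_mul] at h
    exact h
  have hcm : ∀ g l : L, g⁻¹ * (l * g * l⁻¹) ∈ N := by
    intro g l
    apply hcomm
    have h := Subgroup.commutator_mem_commutator (mem_top g⁻¹) (mem_top l) (H₁ := (⊤ : Subgroup L)) (H₂ := ⊤)
    rw [commutatorElement_def, inv_inv] at h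
    have e : g⁻¹ * (l * g * l⁻¹) = g⁻¹ * l * g * l⁻¹ := by group
    rw [e]
    exact h
  have hZcard : Nat.card Z = p := by
    have h1 : Nat.card Z ∣ p ^ 2 := by rw [← c.card_V]; exact card_dvd_of_le inf_le_left
    obtain ⟨i, hi, hki⟩ := (Nat.dvd_prime_pow hp).1 h1
    have hi0 : i ≠ 0 := by
      rintro rfl
      rw [pow_zero] at hki
      have h2 : Z = ⊥ := Subgroup.eq_bot_of_card_eq _ hki
      have h4 : v₀⁻¹ * (x * v₀ * x⁻¹) ∈ Z :=
        mem_inf.2 ⟨mul_mem (inv_mem hv₀) (Normal.conj_mem c.V_normal _ hv₀ _), hcm _ _⟩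
      rw [h2, mem_bot, inv_mul_eq_one, eq_mul_inv_iff_mul_eq] at h4
      exact hxv h4.symm
    have hi2 : i ≠ 2 := by
      rintro rfl
      have h2 : Z = c.V := Subgroup.eq_of_le_of_card_ge inf_le_left (by rw [hki, c.card_V])
      exact hxv (hZc v₀ (by rw [h2]; exact hv₀) x)
    have hi1 : i = 1 := by omega
    rw [hki, hi1, pow_one]
  -- `C_V(x) = Z`
  have hCx : ∀ v ∈ c.V, x * v = v * x → v ∈ Z := by
    set C : Subgroup L := c.V ⊓ centralizer {x} with hC
    have hZC : Z ≤ C := fun z hz => ⟨hz.1, mem_centralizer_singleton_iff.2 (hZc z hz x).symm⟩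
    have h1 : Nat.card C ∣ p ^ 2 := by rw [← c.card_V]; exact card_dvd_of_le inf_le_left
    obtain ⟨i, hi, hki⟩ := (Nat.dvd_prime_pow hp).1 h1
    have hi2 : i ≠ 2 := by
      rintro rfl
      have h2 : C = c.V := Subgroup.eq_of_le_of_card_ge inf_le_left (by rw [hki, c.card_V])
      have h4 : v₀ ∈ C := by rw [h2]; exact hv₀
      exact hxv (mem_centralizer_singleton_iff.1 h4.2).symm
    have h5 : Nat.card C ≤ p := by
      rw [hki]
      calc p ^ i ≤ p ^ 1 := Nat.pow_le_pow_right hp.pos (by omega)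
        _ = p := pow_one p
    have h6 : Z = C := Subgroup.eq_of_le_of_card_ge hZC (by rw [hZcard]; exact h5)
    intro v hv hvx
    rw [h6]
    exact ⟨hv, mem_centralizer_singleton_iff.2 hvx.symm⟩
  -- an element of order 27
  have hxH : x ∉ c.H := fun h => hxv (c.comm_V_H hv₀ h).symm
  obtain ⟨j, hj⟩ := (IsPGroup.iff_orderOf.1 c.hL) x
  have hj3 : 3 ≤ j := by
    by_contra h
    apply hxH
    rw [c.mem_H]
    apply orderOf_dvd_iff_pow_eq_one.1
    rw [hj]
    exact pow_dvd_pow p (by omega)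
  obtain ⟨w, hw⟩ : ∃ w, w = x ^ p ^ (j - 3) := ⟨_, rfl⟩
  have hw27 : w ^ p ^ 3 = 1 := by
    rw [hw, ← pow_mul, ← pow_add, Nat.sub_add_cancel hj3, ← hj]
    exact pow_orderOf_eq_one x
  have hw9 : w ^ p ^ 2 ≠ 1 := by
    intro h
    rw [hw, ← pow_mul, ← pow_add] at h
    have h7 := orderOf_dvd_of_pow_eq_one h
    rw [hj] at h7
    have h8 := (Nat.pow_dvd_pow_iff_le_right hp.one_lt).1 h7
    omega
  have hw9V : w ^ p ^ 2 ∈ c.V := by
    rw [c.mem_V, ← pow_mul, ← pow_succ]
    exact hw27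
  have hw9Z : w ^ p ^ 2 ∈ Z := by
    apply hCx _ hw9V
    rw [hw, ← pow_mul]
    exact (Commute.refl x).pow_right _
  -- the action of `a`
  obtain ⟨v, hv⟩ : ∃ v, v = w⁻¹ * a w := ⟨_, rfl⟩
  have haw : a w = w * v := by rw [hv]; group
  have hvH : v ∈ c.H := by
    have := (H65.pow_eq_pow_iff_of_cyclic c.hp c.hL c.hc 2 w (a w)).1 (by
      rw [← map_pow, hfix _ hw9V])
    rw [hv]
    exact this
  obtain ⟨u, hu⟩ : ∃ u, u = v⁻¹ * a v := ⟨_, rfl⟩
  have hav : a v = v * u := by rw [hu]; group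
  have huV : u ∈ c.V := by
    rw [hu, ← c.reg, ← map_pow, hfix _ (c.mem_H'.1 hvH)]
  have hau : a u = u := hfix u huV
  have cuv : Commute v u := (c.comm_V_H huV hvH).symm
  have horb : ∀ k : ℕ, (a ^ k) w = w * v ^ k * u ^ (k.choose 2) := by
    intro k
    induction k with
    | zero => simp
    | succ k ih =>
      have e1 : (a ^ (k + 1)) w = a ((a ^ k) w) := by rw [pow_succ']; rfl
      rw [e1, ih, map_mul, map_mul, map_pow, map_pow, haw, hav, hau, cuv.mul_pow]
      have e2 : (k + 1).choose 2 = k + k.choose 2 := by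
        rw [Nat.choose_succ_succ' k 1, Nat.choose_one_right]
      rw [e2, pow_succ' v, pow_add]
      simp only [mul_assoc]
  have hvV : v ∈ c.V := by
    have hend := horb p
    rw [ha1] at hend
    obtain ⟨i, hi⟩ := hp.dvd_choose_self (k := 2) (by norm_num) (lt_of_le_of_ne hp.two_le c.hp.symm)
    rw [hi, pow_mul, c.mem_V.1 huV, one_pow, mul_one] at hend
    change w = w * v ^ p at hend
    rw [c.mem_V]
    exact mul_eq_left.1 hend.symm
  obtain ⟨h, hh⟩ : ∃ h, h = w ^ p := ⟨_, rfl⟩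
  have hah : a h = h := by
    obtain ⟨d, hd, hwd⟩ := H65.mul_pow_p_of_cyclic c.hp c.hL c.hc w v
    have hdV : d ∈ c.V := by
      refine (zpowers_le.2 ?_) hd
      have e : ⁅w, v⁆ = (w * v * w⁻¹) * v⁻¹ := by rw [commutatorElement_def]
      rw [e]
      exact mul_mem (Normal.conj_mem c.V_normal _ hvV _) (inv_mem hvV)
    rw [hh, map_pow, haw, hwd, c.mem_V.1 hdV, c.mem_V.1 hvV, mul_one, mul_one]
  have hhp : h ^ p = w ^ p ^ 2 := by rw [hh, ← pow_mul, sq]
  have hhV : h ∉ c.V := by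
    rw [c.mem_V, hhp]
    exact hw9
  have hhH : h ∈ c.H := by rw [c.mem_H', hhp]; exact hw9V
  have hhl : ∀ l : L, h⁻¹ * (l * h * l⁻¹) ∈ Z := by
    intro l
    refine mem_inf.2 ⟨?_, hcm h l⟩
    rw [← c.reg, conj_pow, hhp, hZc _ hw9Z l]
    group
  -- the section
  have hK : ∀ g ∈ zpowers h ⊔ c.V, (∀ l : L, g⁻¹ * (l * g * l⁻¹) ∈ Z) ∧ a g = g ∧ g ∈ c.H := by
    intro g hg
    have h1 : zpowers h ⊔ c.V ≤ ((center (L ⧸ Z)).comap (QuotientGroup.mk' Z)) ⊓
        (MonoidHom.eqLocus a.toMonoidHom (MonoidHom.id L)) ⊓ c.H := by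
      have hcen : ∀ g : L, (∀ l : L, g⁻¹ * (l * g * l⁻¹) ∈ Z) → g ∈ (center (L ⧸ Z)).comap (QuotientGroup.mk' Z) := by
        intro g hg
        rw [mem_comap, mem_center_iff]
        intro q
        obtain ⟨l, rfl⟩ := QuotientGroup.mk_surjective q
        have h2 := (QuotientGroup.eq_one_iff _).2 (hg l)
        have h4 : ((g : L ⧸ Z))⁻¹ * ((l : L ⧸ Z) * g * (l : L ⧸ Z)⁻¹) = 1 := h2
        rw [inv_mul_eq_one, eq_mul_inv_iff_mul_eq] at h4
        exact h4.symm
      refine sup_le ?_ ?_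
      · rw [zpowers_le]
        exact mem_inf.2 ⟨mem_inf.2 ⟨hcen h hhl, hah⟩, hhH⟩
      · intro g hg
        refine mem_inf.2 ⟨mem_inf.2 ⟨hcen g fun l => ?_, hfix g hg⟩, c.V_le_H hg⟩
        exact mem_inf.2 ⟨mul_mem (inv_mem hg) (Normal.conj_mem c.V_normal _ hg _), hcm g l⟩
    obtain ⟨h24, h5⟩ := mem_inf.1 (h1 hg)
    obtain ⟨h2, h4⟩ := mem_inf.1 h24
    refine ⟨fun l => ?_, h4, h5⟩
    rw [mem_comap, mem_center_iff] at h2
    have h6 := h2 (l : L ⧸ Z)
    have h7 : (l : L ⧸ Z) * g = g * l := h6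
    rw [← QuotientGroup.eq_one_iff]
    change ((g : L ⧸ Z))⁻¹ * ((l : L ⧸ Z) * g * (l : L ⧸ Z)⁻¹) = 1
    rw [h7]; group
  have hZW : Z ≤ zpowers h ⊔ c.V := le_trans inf_le_left le_sup_right
  have hWn : (zpowers h ⊔ c.V).Normal := by
    refine ⟨fun g hg l => ?_⟩
    have e : l * g * l⁻¹ = g * (g⁻¹ * (l * g * l⁻¹)) := by group
    rw [e]
    exact mul_mem hg (hZW ((hK g hg).1 l))
  obtain ⟨k, hk⟩ := (IsPGroup.iff_card).1 (c.hL.to_subgroup (zpowers h ⊔ c.V))
  have hk3 : 3 ≤ k := by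
    by_contra hlt
    have h1 : Nat.card ↥(zpowers h ⊔ c.V) ≤ Nat.card c.V := by
      rw [hk, c.card_V]
      exact Nat.pow_le_pow_right hp.pos (by omega)
    have h2 := Subgroup.eq_of_le_of_card_ge (le_sup_right : c.V ≤ zpowers h ⊔ c.V) h1
    apply hhV
    rw [h2]
    exact (le_sup_left : zpowers h ≤ zpowers h ⊔ c.V) (mem_zpowers h)
  have hkm : k < m := by
    by_contra hge
    have h1 : Nat.card ↥(zpowers h ⊔ c.V) = Nat.card L := by
      apply le_antisymm (card_le_card_group _)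
      rw [hk, hm]
      exact Nat.pow_le_pow_right hp.pos (by omega)
    have h2 := Subgroup.eq_top_of_card_eq _ h1
    exact hxH (hK x (by rw [h2]; exact mem_top x)).2.2
  refine no_section_L a ha m hm hcl (zpowers h ⊔ c.V) Z (fun g hg => by rw [(hK g hg).2.1]; exact hg)
    (fun g hg l => (hK g hg).1 l)
    (fun g hg => by rw [(hK g hg).2.1, inv_mul_cancel]; exact one_mem _) k 1 hk (by rw [hZcard, pow_one])
    (by omega) hkm

end Ctx

end Cfsg.Agent.H11.MA
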