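import Cfsg.Agent.Fus.PSol1
import Cfsg.Agent.ZJ.GTAux
import Cfsg.Agent.ZJ.Constrained

/-!
# Hall `{p,q}`-subgroups of `p`-solvable groups (helper11)
-/

set_option autoImplicit false
set_option linter.style.haveILetI false

namespace Cfsg.Agent.H11.PQ

open Subgroup Cfsg

universe u

/-- a Hall `{p,q}`-subgroup -/
def IsPQHall (p q : ℕ) {G : Type*} [Group G] (Y : Subgroup G) : Prop :=
  (∀ r : ℕ, r.Prime → r ∣ Nat.card Y → r = p ∨ r = q) ∧ ¬ p ∣ Y.index ∧ ¬ q ∣ Y.index

theorem card_comap_mk' {G : Type*} [Group G] [Finite G] (N : Subgroup G) [N.Normal]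
    (Y : Subgroup (G ⧸ N)) : Nat.card (Y.comap (QuotientGroup.mk' N)) = Nat.card N * Nat.card Y := by
  have e1 := Subgroup.index_comap_of_surjective Y (QuotientGroup.mk'_surjective N)
  have e2 := Subgroup.card_mul_index (Y.comap (QuotientGroup.mk' N))
  have e3 := Subgroup.card_mul_index Y
  have e4 := Subgroup.card_eq_card_quotient_mul_card_subgroup N
  rw [e1] at e2
  have e5 : 0 < Y.index := Nat.pos_of_ne_zero Subgroup.index_ne_zero_of_finite
  apply Nat.eq_of_mul_eq_mul_right e5
  rw [e2, e4, ← e3]; ring

theorem quot_step {G : Type*} [Group G] [Finite G] {p q : ℕ} (N : Subgroup G) [N.Normal]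
    (hN : ∀ r : ℕ, r.Prime → r ∣ Nat.card N → r = p ∨ r = q)
    (h : ∃ Y : Subgroup (G ⧸ N), IsPQHall p q Y) : ∃ Y : Subgroup G, IsPQHall p q Y := by
  obtain ⟨Y, h1, h2, h3⟩ := h
  refine ⟨Y.comap (QuotientGroup.mk' N), ?_, ?_, ?_⟩
  · intro r hr hd
    rw [card_comap_mk'] at hd
    rcases (Nat.Prime.dvd_mul hr).mp hd with h | h
    · exact hN r hr h
    · exact h1 r hr h
  · rw [Subgroup.index_comap_of_surjective Y (QuotientGroup.mk'_surjective N)]; exact h2
  · rw [Subgroup.index_comap_of_surjective Y (QuotientGroup.mk'_surjective N)]; exact h3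

theorem card_quot_lt {G : Type*} [Group G] [Finite G] {N : Subgroup G} [N.Normal] (h : N ≠ ⊥) :
    Nat.card (G ⧸ N) < Nat.card G := by
  have e4 := Subgroup.card_eq_card_quotient_mul_card_subgroup N
  have h1 : 1 < Nat.card N := by
    rw [Finite.one_lt_card_iff_nontrivial, Subgroup.nontrivial_iff_ne_bot]
    exact h
  rw [e4]
  exact lt_mul_of_one_lt_right Nat.card_pos h1

theorem exists_pq_hall {p q : ℕ} [hp : Fact p.Prime] [hq : Fact q.Prime] (hpq : p ≠ q) (n : ℕ) :
    ∀ (G : Type u) [Group G] [Finite G], IsPSolvable p G → Nat.card G = n →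
      ∃ Y : Subgroup G, IsPQHall p q Y := by
  induction n using Nat.strong_induction_on with
  | _ n ih =>
    intro G _ _ hs hcard
    have htriv : ∀ r : ℕ, r.Prime → ¬ r ∣ 1 := fun r hr h => hr.one_lt.ne' (Nat.dvd_one.mp h)
    rcases subsingleton_or_nontrivial G with hG | hG
    · refine ⟨⊤, ?_, ?_, ?_⟩
      · intro r hr hd
        rw [Subgroup.card_top, Nat.card_eq_one_iff_unique.mpr ⟨hG, inferInstance⟩] at hd
        exact absurd hd (htriv r hr)
      · rw [Subgroup.index_top]; exact htriv p hp.out
      · rw [Subgroup.index_top]; exact htriv q hq.out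
    rcases Fus.PSol.core_ne_bot hs with h | h
    · refine quot_step (pCore p G) ?_ (ih _ ?_ (G ⧸ pCore p G) (H76.isPSolvable_quotient _ hs) rfl)
      · intro r hr hd
        obtain ⟨k, hk⟩ := IsPGroup.iff_card.mp (Solv.pCore_isPGroup (G := G) p)
        rw [hk] at hd
        exact Or.inl ((Nat.prime_dvd_prime_iff_eq hr hp.out).mp (hr.dvd_of_dvd_pow hd))
      · rw [← hcard]; exact card_quot_lt h
    · set N := pPrimeCore p G with hN
      have hNcop : (Nat.card N).Coprime p := Solv.pPrimeCore_card_coprime p
      by_cases hqN : q ∣ Nat.card N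
      · obtain ⟨T⟩ : Nonempty (Sylow p G) := inferInstance
        obtain ⟨Q, hQN, hQq, hQc, hTQ⟩ := ZJ.exists_invariant_sylow (q := q) T hNcop
        have hQne : Q ≠ ⊥ := by
          rintro rfl
          rw [Subgroup.card_bot] at hQc
          have : 0 < (Nat.card N).factorization q :=
            hq.out.factorization_pos_of_dvd Nat.card_pos.ne' hqN
          have h2 := Nat.one_lt_pow this.ne' hq.out.one_lt
          omega
        by_cases hQn : Q.Normal
        · refine quot_step Q ?_ (ih _ ?_ (G ⧸ Q) (H76.isPSolvable_quotient _ hs) rfl)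
          · intro r hr hd
            rw [hQc] at hd
            exact Or.inr ((Nat.prime_dvd_prime_iff_eq hr hq.out).mp (hr.dvd_of_dvd_pow hd))
          · rw [← hcard]; exact card_quot_lt hQne
        · set M := normalizer (Q : Set G) with hM
          have hMt : M ≠ ⊤ := fun h0 => hQn (Subgroup.normalizer_eq_top_iff.mp h0)
          have hlt : Nat.card M < n := by
            rw [← hcard, ← M.card_mul_index]
            apply lt_mul_of_one_lt_right Nat.card_pos
            have h1 : M.index ≠ 0 := Subgroup.index_ne_zero_of_finite
            have h2 : M.index ≠ 1 := fun h0 => hMt (Subgroup.index_eq_one.mp h0)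
            omega
          obtain ⟨Y, hY1, hY2, hY3⟩ := ih _ hlt M (H76.isPSolvable_subgroup M hs) rfl
          -- the index of `M`
          have hMp : ¬ p ∣ M.index := by
            intro hd
            exact T.not_dvd_index (hd.trans (Subgroup.index_dvd_of_le hTQ))
          have hMq : ¬ q ∣ M.index := by
            -- `Q` is Sylow in `N`
            have hsy : ∃ Q₀ : Sylow q N, (Q₀ : Subgroup N).map N.subtype = Q := by
              refine ⟨Sylow.ofCard (Q.subgroupOf N) ?_, ?_⟩
              · rw [← hQc]
                exact Nat.card_congr (Subgroup.subgroupOfEquivOfLe hQN).toEquiv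
              · rw [Sylow.coe_ofCard, Subgroup.subgroupOf_map_subtype, inf_eq_left.mpr hQN]
            obtain ⟨Q₀, hQ₀⟩ := hsy
            have hF : M ⊔ N = ⊤ := by
              have := Q₀.normalizer_sup_eq_top
              rw [hQ₀] at this
              exact this
            have h1 := Cfsg.Agent.Solv.mul_card_sup_of_normal M N
            rw [hF, Subgroup.card_top, ← M.card_mul_index] at h1
            have h2 : M.index * Nat.card (M ⊓ N : Subgroup G) = Nat.card N := by
              apply Nat.eq_of_mul_eq_mul_left (Nat.card_pos (α := M))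
              rw [← mul_assoc]; exact h1
            intro hd
            have h3 : Nat.card Q ∣ Nat.card (M ⊓ N : Subgroup G) :=
              Subgroup.card_dvd_of_le (le_inf Subgroup.le_normalizer hQN)
            have h4 : q * Nat.card Q ∣ Nat.card N := by
              rw [← h2]; exact mul_dvd_mul hd h3
            rw [hQc, ← pow_succ'] at h4
            exact Nat.pow_succ_factorization_not_dvd Nat.card_pos.ne' hq.out h4
          refine ⟨Y.map M.subtype, ?_, ?_, ?_⟩
          · intro r hr hd
            rw [Subgroup.card_map_of_injective M.subtype_injective] at hd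
            exact hY1 r hr hd
          · rw [Subgroup.index_map_subtype]
            intro hd
            rcases (Nat.Prime.dvd_mul hp.out).mp hd with h | h
            · exact hY2 h
            · exact hMp h
          · rw [Subgroup.index_map_subtype]
            intro hd
            rcases (Nat.Prime.dvd_mul hq.out).mp hd with h | h
            · exact hY3 h
            · exact hMq h
      · obtain ⟨Yb, hY1, hY2, hY3⟩ := ih _ (by rw [← hcard]; exact card_quot_lt h) (G ⧸ N)
          (H76.isPSolvable_quotient _ hs) rfl
        set Y₁ := Yb.comap (QuotientGroup.mk' N) with hY₁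
        have hNY : N ≤ Y₁ := by
          intro x hx
          rw [hY₁, Subgroup.mem_comap]
          have : QuotientGroup.mk' N x = 1 := (QuotientGroup.eq_one_iff x).mpr hx
          rw [this]; exact Yb.one_mem
        have hc1 : Nat.card Y₁ = Nat.card N * Nat.card Yb := card_comap_mk' N Yb
        have hcN : Nat.card (N.subgroupOf Y₁) = Nat.card N :=
          Nat.card_congr (Subgroup.subgroupOfEquivOfLe hNY).toEquiv
        have hidx : (N.subgroupOf Y₁).index = Nat.card Yb := by
          have h1 := (N.subgroupOf Y₁).card_mul_index
          rw [hcN, hc1] at h1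
          exact Nat.eq_of_mul_eq_mul_left Nat.card_pos h1
        have hcop : Nat.Coprime (Nat.card (N.subgroupOf Y₁)) (N.subgroupOf Y₁).index := by
          rw [hcN, hidx]
          apply Nat.coprime_of_dvd
          intro r hr h1 h2
          rcases hY1 r hr h2 with rfl | rfl
          · exact (Nat.Prime.coprime_iff_not_dvd hr).mp hNcop.symm h1
          · exact hqN h1
        obtain ⟨K, hK⟩ := Subgroup.exists_right_complement'_of_coprime hcop
        have hKc : Nat.card K = Nat.card Yb := by
          rw [← hidx, hK.symm.index_eq_card]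
        have hKi : K.index = Nat.card N := by
          have h1 := K.card_mul_index
          rw [hKc, hc1, mul_comm] at h1
          exact Nat.eq_of_mul_eq_mul_right Nat.card_pos h1
        refine ⟨K.map Y₁.subtype, ?_, ?_, ?_⟩
        · intro r hr hd
          rw [Subgroup.card_map_of_injective Y₁.subtype_injective, hKc] at hd
          exact hY1 r hr hd
        · rw [Subgroup.index_map_subtype, hKi, hY₁,
            Subgroup.index_comap_of_surjective Yb (QuotientGroup.mk'_surjective N)]
          intro hd
          rcases (Nat.Prime.dvd_mul hp.out).mp hd with h | h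
          · exact (Nat.Prime.coprime_iff_not_dvd hp.out).mp hNcop.symm h
          · exact hY2 h
        · rw [Subgroup.index_map_subtype, hKi, hY₁,
            Subgroup.index_comap_of_surjective Yb (QuotientGroup.mk'_surjective N)]
          intro hd
          rcases (Nat.Prime.dvd_mul hq.out).mp hd with h | h
          · exact hqN h
          · exact hY3 h

end Cfsg.Agent.H11.PQ
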